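import Cfsg.Agent.Lib.Lead.Residual

set_option autoImplicit false

/-! Behaviour of `O^p` under homomorphisms and multiplicative relations (helper86). -/

namespace Cfsg.Agent.Lib.Helper86

open Cfsg

/-- A homomorphism maps `O^p` into `O^p`. -/
theorem pResidual_map_le {G H : Type*} [Group G] [Group H] (p : ℕ) (f : G →* H) :
    (pResidual p G).map f ≤ pResidual p H := by
  unfold pResidual
  rw [MonoidHom.map_closure, Subgroup.closure_le]
  rintro _ ⟨g, hg, rfl⟩
  apply Subgroup.subset_closure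
  exact Nat.Coprime.coprime_dvd_left (orderOf_map_dvd f g) hg

/-- A surjective homomorphism from a finite group maps `O^p` onto `O^p`. -/
theorem pResidual_le_map_of_surjective {G H : Type*} [Group G] [Group H] [Finite G] (p : ℕ)
    [Fact p.Prime] (f : G →* H) (hf : Function.Surjective f) :
    pResidual p H ≤ (pResidual p G).map f := by
  have hn : ((pResidual p G).map f).Normal := Subgroup.Normal.map inferInstance f hf
  apply Cfsg.Agent.Lib.Lead.pResidual_le_of_isPGroup_quotient
  intro x
  obtain ⟨h, rfl⟩ := QuotientGroup.mk'_surjective _ x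
  obtain ⟨g, rfl⟩ := hf h
  obtain ⟨k, hk⟩ := Cfsg.Agent.Lib.Lead.isPGroup_quotient_pResidual (p := p) (G := G)
    (QuotientGroup.mk' _ g)
  refine ⟨k, ?_⟩
  rw [← map_pow] at hk ⊢
  rw [← map_pow]
  have h1 : g ^ p ^ k ∈ pResidual p G := (QuotientGroup.eq_one_iff _).mp hk
  exact (QuotientGroup.eq_one_iff _).mpr ⟨_, h1, rfl⟩

/-- Transfer of `O^p` along a multiplicative relation that is total on the left. -/
theorem exists_mem_pResidual_of_rel {G H : Type*} [Group G] [Group H] [Finite G] [Finite H] (p : ℕ)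
    [Fact p.Prime] (W : Subgroup (G × H)) (htot : ∀ g : G, ∃ h : H, (g, h) ∈ W) {g : G}
    (hg : g ∈ pResidual p G) : ∃ h ∈ pResidual p H, (g, h) ∈ W := by
  let f₁ : W →* G := (MonoidHom.fst G H).comp W.subtype
  let f₂ : W →* H := (MonoidHom.snd G H).comp W.subtype
  have hsurj : Function.Surjective f₁ := by
    intro g
    obtain ⟨h, hh⟩ := htot g
    exact ⟨⟨(g, h), hh⟩, rfl⟩
  obtain ⟨w, hw, rfl⟩ := pResidual_le_map_of_surjective p f₁ hsurj hg
  exact ⟨f₂ w, pResidual_map_le p f₂ ⟨w, hw, rfl⟩, w.2⟩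

end Cfsg.Agent.Lib.Helper86
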