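import Cfsg.Agent.Lib.Helper84.FusionAlperin2
import Cfsg.Agent.Lib.Helper34.PResidual

set_option autoImplicit false

/-! The full subsystem of a fusion system on a smaller subgroup; generation of `Aut` by the residual and a
Sylow subgroup (helper86). -/

namespace Cfsg.Agent.Lib.Helper86

open Cfsg Cfsg.FusionSystem Cfsg.Agent.Lib.Helper84

variable {Ω : Type*} [Group Ω]

/-- The full subsystem of `F` (over `U`) on the subgroup `T ≤ U`: all maps of `F` between subgroups of `T`. -/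
def restrictTo {U : Subgroup Ω} (F : FusionSystem U) (T : Subgroup Ω) (hTU : T ≤ U) : FusionSystem T where
  Hom P := {φ | φ ∈ F.Hom P ∧ P ≤ T ∧ ∀ x : P, φ x ∈ T}
  le_of_mem h := ⟨h.2.1, h.2.2⟩
  injective_of_mem h := F.injective_of_mem h.1
  conj_mem := by
    intro P g hP hg
    refine ⟨F.conj_mem (hP.trans hTU) (hTU hg), hP, fun x => ?_⟩
    exact T.mul_mem (T.mul_mem hg (hP x.2)) (T.inv_mem hg)
  comp_mem := by
    intro P Q φ ψ hφ hψ h
    exact ⟨F.comp_mem hφ.1 hψ.1 h, hφ.2.1, fun x => hψ.2.2 _⟩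
  inv_mem := by
    intro P φ hφ
    obtain ⟨ψ, hψ, hψ'⟩ := F.inv_mem hφ.1
    refine ⟨ψ, ⟨hψ, ?_, ?_⟩, hψ'⟩
    · rintro _ ⟨x, rfl⟩
      exact hφ.2.2 x
    · rintro ⟨_, x, rfl⟩
      rw [hψ']
      exact hφ.2.1 x.2

theorem mem_restrictTo {U : Subgroup Ω} (F : FusionSystem U) (T : Subgroup Ω) (hTU : T ≤ U)
    {P : Subgroup Ω} (φ : P →* Ω) :
    φ ∈ (restrictTo F T hTU).Hom P ↔ φ ∈ F.Hom P ∧ P ≤ T ∧ ∀ x : P, φ x ∈ T := Iff.rfl

theorem autGroup_restrictTo {U : Subgroup Ω} (F : FusionSystem U) (T : Subgroup Ω) (hTU : T ≤ U)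
    {P : Subgroup Ω} (hP : P ≤ T) : (restrictTo F T hTU).autGroup P = F.autGroup P := by
  ext α
  rw [mem_autGroup_iff _ hP, mem_autGroup_iff _ (hP.trans hTU)]
  constructor
  · intro h
    exact h.1
  · intro h
    exact ⟨h, hP, fun x => hP (α x).2⟩

/-- Monotonicity of `O^p` for subgroups of a common group. -/
theorem pResidual_map_mono {X : Type*} [Group X] (p : ℕ) {A B : Subgroup X} (h : A ≤ B) :
    (pResidual p A).map A.subtype ≤ (pResidual p B).map B.subtype := by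
  unfold pResidual
  rw [MonoidHom.map_closure, Subgroup.closure_le]
  rintro _ ⟨a, ha, rfl⟩
  refine ⟨⟨a, h a.2⟩, Subgroup.subset_closure ?_, rfl⟩
  show Nat.Coprime (orderOf (⟨a, h a.2⟩ : B)) p
  have h1 : orderOf (⟨(a : X), h a.2⟩ : B) = orderOf (a : X) := by
    rw [← Subgroup.orderOf_coe]
  have h2 : orderOf a = orderOf (a : X) := by
    rw [← Subgroup.orderOf_coe]
  rw [h1, ← h2]
  exact ha

/-- If `Σ` is (the trace of) a Sylow `p`-subgroup of the finite group `A ≤ X`, every subgroup containing `Σ`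
and `O^p(A)` contains `A`. -/
theorem le_of_sylow_le_of_pResidual_le {X : Type*} [Group X] {p : ℕ} [Fact p.Prime] {A T B : Subgroup X}
    [Finite A] (R : Sylow p A) (hR : (R : Subgroup A) = T.subgroupOf A) (hT : T ⊓ A ≤ B)
    (hres : (pResidual p A).map A.subtype ≤ B) : A ≤ B := by
  intro a ha
  have hidx : ¬ p ∣ (R : Subgroup A).index := R.not_dvd_index
  obtain ⟨s, hs, u, hu, hsu⟩ := Cfsg.Agent.Lib.Helper34.exists_mul_pResidual (R : Subgroup A) hidx ⟨a, ha⟩
  have h1 : a = (s : X) * (u : X) := congrArg Subtype.val hsu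
  rw [h1]
  refine B.mul_mem (hT ⟨?_, s.2⟩) (hres ⟨u, hu, rfl⟩)
  rw [hR] at hs
  exact hs

end Cfsg.Agent.Lib.Helper86
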