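import Cfsg.Agent.Lib.Helper92.M24Tools
import Cfsg.Agent.Lib.Helper56.SchreierSims

set_option autoImplicit false

/-!
# Subgroups of `Perm GolayPt` given by a chain of transversals of permutation codes (helper86)

A chain is a list of levels `(b, T)`: `b` the index of a base point, `T` a list of permutation codes.
`clo Lv` is the subgroup generated by all the codes.  A Boolean certificate (`lvCheck`) shows that
`clo ((b, T) :: Lv) = T * clo Lv`.
-/

namespace Cfsg.Agent.Lib.Helper86

open Cfsg
open Cfsg.Agent.Lib.Helper27 Cfsg.Agent.Lib.Helper92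
open scoped Pointwise

/-- the ambient permutation group. -/
abbrev PG := Equiv.Perm GolayPt

/-- a chain of levels. -/
abbrev Chain := List (ℕ × List ℕ)

/-- all the codes of a chain. -/
def gensOf (Lv : Chain) : List ℕ := List.rec [] (fun bT _ ih => bT.2 ++ ih) Lv

theorem gensOf_cons (bT : ℕ × List ℕ) (Lv : Chain) : gensOf (bT :: Lv) = bT.2 ++ gensOf Lv := rfl

/-- the subgroup generated by a list of codes. -/
def cloL (l : List ℕ) : Subgroup PG := Subgroup.closure {g | ∃ c ∈ l, g = permOf c}

theorem permOf_mem_cloL {l : List ℕ} {c : ℕ} (h : c ∈ l) : permOf c ∈ cloL l :=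
  Subgroup.subset_closure ⟨c, h, rfl⟩

theorem cloL_le {l : List ℕ} {K : Subgroup PG} (h : ∀ c ∈ l, permOf c ∈ K) : cloL l ≤ K := by
  rw [cloL, Subgroup.closure_le]
  rintro _ ⟨c, hc, rfl⟩
  exact h c hc

theorem cloL_mono {l l' : List ℕ} (h : ∀ c ∈ l, c ∈ l') : cloL l ≤ cloL l' :=
  cloL_le (fun c hc => permOf_mem_cloL (h c hc))

/-- the subgroup generated by all the codes of a chain. -/
def clo (Lv : Chain) : Subgroup PG := cloL (gensOf Lv)

theorem clo_nil : clo [] = ⊥ := by
  rw [clo, cloL, Subgroup.closure_eq_bot_iff]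
  rintro _ ⟨c, hc, rfl⟩
  simp [gensOf] at hc

theorem clo_le_cons (bT : ℕ × List ℕ) (Lv : Chain) : clo Lv ≤ clo (bT :: Lv) :=
  cloL_mono (fun c hc => by rw [gensOf_cons]; exact List.mem_append_right _ hc)

theorem permOf_mem_clo_cons {bT : ℕ × List ℕ} {Lv : Chain} {c : ℕ} (h : c ∈ bT.2) :
    permOf c ∈ clo (bT :: Lv) :=
  permOf_mem_cloL (by rw [gensOf_cons]; exact List.mem_append_left _ h)

/-- sifting with an accumulator: is `c` equal to `acc * u₁ * u₂ * ⋯` with `uᵢ` in the `i`-th level? -/
def siftAcc (Lv : Chain) : ℕ → ℕ → Bool :=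
  List.rec (motive := fun _ => ℕ → ℕ → Bool) (fun acc c => Nat.beq acc c)
    (fun bT _ ih acc c =>
      anyList (fun u => band (Nat.beq (ent acc (ent u bT.1)) (ent c bT.1)) (ih (mulCode acc u) c)) bT.2) Lv

theorem siftAcc_nil (acc c : ℕ) : siftAcc [] acc c = Nat.beq acc c := rfl

theorem siftAcc_cons (bT : ℕ × List ℕ) (Lv : Chain) (acc c : ℕ) :
    siftAcc (bT :: Lv) acc c =
      anyList (fun u => band (Nat.beq (ent acc (ent u bT.1)) (ent c bT.1))
        (siftAcc Lv (mulCode acc u) c)) bT.2 := rfl

/-- membership test for the product set of a chain. -/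
def sift (Lv : Chain) (c : ℕ) : Bool := siftAcc Lv idCode c

/-- all codes of the list are valid. -/
def allValid (l : List ℕ) : Bool := allList validCode l

theorem allValid_iff (l : List ℕ) : allValid l = true ↔ ∀ c ∈ l, validCode c = true := allList_iff _ _

theorem siftAcc_sound (Lv : Chain) : ∀ (acc c : ℕ), allValid (gensOf Lv) = true →
    validCode acc = true → siftAcc Lv acc c = true → ∃ h ∈ clo Lv, permOf c = permOf acc * h := by
  induction Lv with
  | nil =>
    intro acc c _ _ h
    rw [siftAcc_nil, Nat.beq_eq] at h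
    exact ⟨1, Subgroup.one_mem _, by rw [h, mul_one]⟩
  | cons bT Lv ih =>
    intro acc c hv hacc h
    rw [siftAcc_cons, anyList_iff] at h
    obtain ⟨u, hu, h⟩ := h
    rw [band_eq, Bool.and_eq_true] at h
    rw [allValid_iff] at hv
    have hvu : validCode u = true := hv u (by rw [gensOf_cons]; exact List.mem_append_left _ hu)
    have hv' : allValid (gensOf Lv) = true := by
      rw [allValid_iff]
      intro c hc
      exact hv c (by rw [gensOf_cons]; exact List.mem_append_right _ hc)
    obtain ⟨k, hk, he⟩ := ih (mulCode acc u) c hv' (validCode_mulCode hacc hvu) h.2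
    refine ⟨permOf u * k, Subgroup.mul_mem _ (permOf_mem_clo_cons hu) (clo_le_cons _ _ hk), ?_⟩
    rw [he, permOf_mulCode hacc hvu, mul_assoc]

/-- refined soundness at the top level: the first factor is in `T`, the rest in `clo Lv`. -/
theorem sift_cons_sound {bT : ℕ × List ℕ} {Lv : Chain} {c : ℕ}
    (hv : allValid (gensOf (bT :: Lv)) = true) (h : sift (bT :: Lv) c = true) :
    ∃ u ∈ bT.2, ∃ k ∈ clo Lv, permOf c = permOf u * k := by
  unfold sift at h
  rw [siftAcc_cons, anyList_iff] at h
  obtain ⟨u, hu, h⟩ := h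
  rw [band_eq, Bool.and_eq_true] at h
  rw [allValid_iff] at hv
  have hvu : validCode u = true := hv u (by rw [gensOf_cons]; exact List.mem_append_left _ hu)
  have hv' : allValid (gensOf Lv) = true := by
    rw [allValid_iff]
    intro c hc
    exact hv c (by rw [gensOf_cons]; exact List.mem_append_right _ hc)
  obtain ⟨k, hk, he⟩ := siftAcc_sound Lv (mulCode idCode u) c hv'
    (validCode_mulCode validCode_idCode hvu) h.2
  refine ⟨u, hu, k, hk, ?_⟩
  rw [he, permOf_mulCode validCode_idCode hvu, permOf_idCode, one_mul]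

theorem sift_sound {Lv : Chain} {c : ℕ} (hv : allValid (gensOf Lv) = true)
    (h : sift Lv c = true) : permOf c ∈ clo Lv := by
  obtain ⟨k, hk, he⟩ := siftAcc_sound Lv idCode c hv validCode_idCode h
  rw [he, permOf_idCode, one_mul]
  exact hk

/-- the closure certificate of one level. -/
def lvCheck (Lv : Chain) : Bool :=
  List.rec true (fun bT l _ =>
    band (allValid (gensOf (bT :: l)))
      (band (anyList isId bT.2)
        (allList (fun s => allList (fun u => sift (bT :: l) (mulCode s u)) bT.2) (gensOf (bT :: l))))) Lv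

theorem lvCheck_cons (bT : ℕ × List ℕ) (l : Chain) : lvCheck (bT :: l) =
    band (allValid (gensOf (bT :: l)))
      (band (anyList isId bT.2)
        (allList (fun s => allList (fun u => sift (bT :: l) (mulCode s u)) bT.2)
          (gensOf (bT :: l)))) := rfl

/-- **factorization**: `clo ((b, T) :: Lv) = T * clo Lv`. -/
theorem clo_factor {bT : ℕ × List ℕ} {Lv : Chain} (h : lvCheck (bT :: Lv) = true) :
    ∀ g ∈ clo (bT :: Lv), ∃ u ∈ bT.2, validCode u = true ∧ ∃ k ∈ clo Lv, g = permOf u * k := by
  rw [lvCheck_cons, band_eq, band_eq, Bool.and_eq_true, Bool.and_eq_true, anyList_iff,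
    allList_iff] at h
  obtain ⟨hv, ⟨e, heT, he⟩, hcl⟩ := h
  have hv' := (allValid_iff _).1 hv
  let X : Set PG := {g | ∃ u ∈ bT.2, ∃ k ∈ clo Lv, g = permOf u * k}
  have h1X : (1 : PG) ∈ X := ⟨e, heT, 1, Subgroup.one_mem _, by rw [permOf_eq_one he, mul_one]⟩
  have hstep : ∀ t ∈ {g : PG | ∃ c ∈ gensOf (bT :: Lv), g = permOf c}, ∀ q ∈ X, t • q ∈ X := by
    rintro _ ⟨s, hs, rfl⟩ _ ⟨u, hu, k, hk, rfl⟩
    have h2 := (allList_iff _ _).1 (hcl s hs) u hu
    obtain ⟨u', hu', k', hk', he'⟩ := sift_cons_sound hv h2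
    have hvu : validCode u = true := hv' u (by rw [gensOf_cons]; exact List.mem_append_left _ hu)
    rw [permOf_mulCode (hv' s hs) hvu] at he'
    refine ⟨u', hu', k' * k, Subgroup.mul_mem _ hk' hk, ?_⟩
    rw [smul_eq_mul, ← mul_assoc, he', mul_assoc]
  intro g hg
  have := Cfsg.Agent.Lib.Helper56.smul_mem_of_mem_closure (X := PG) (Set.toFinite X) hstep hg h1X
  rw [smul_eq_mul, mul_one] at this
  obtain ⟨u, hu, k, hk, rfl⟩ := this
  exact ⟨u, hu, hv' u (by rw [gensOf_cons]; exact List.mem_append_left _ hu), k, hk, rfl⟩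

/-- the stabilizer certificate of one level: deeper codes fix the base point, and the only codes of the level
fixing the base point are codes of the identity. -/
def stCheck (Lv : Chain) : Bool :=
  List.rec true (fun bT l _ =>
    band (Nat.blt bT.1 24)
      (band (allList (fun c => Nat.beq (ent c bT.1) bT.1) (gensOf l))
        (allList (fun u => bor (bnot (Nat.beq (ent u bT.1) bT.1)) (isId u)) bT.2))) Lv

theorem stCheck_cons (bT : ℕ × List ℕ) (l : Chain) : stCheck (bT :: l) =
    band (Nat.blt bT.1 24)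
      (band (allList (fun c => Nat.beq (ent c bT.1) bT.1) (gensOf l))
        (allList (fun u => bor (bnot (Nat.beq (ent u bT.1) bT.1)) (isId u)) bT.2)) := rfl

theorem clo_fixes {bT : ℕ × List ℕ} {Lv : Chain} (h : lvCheck (bT :: Lv) = true)
    (h' : stCheck (bT :: Lv) = true) : ∀ g ∈ clo Lv, g (pt bT.1) = pt bT.1 := by
  rw [lvCheck_cons, band_eq, Bool.and_eq_true] at h
  have hv' := (allValid_iff _).1 h.1
  rw [stCheck_cons, band_eq, band_eq, Bool.and_eq_true, Bool.and_eq_true, Nat.blt_eq, allList_iff,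
    allList_iff] at h'
  obtain ⟨hb, h1, -⟩ := h'
  have : clo Lv ≤ MulAction.stabilizer PG (pt bT.1) := by
    apply cloL_le
    intro c hc
    rw [MulAction.mem_stabilizer_iff]
    have hvc : validCode c = true := hv' c (by rw [gensOf_cons]; exact List.mem_append_right _ hc)
    show permOf c (pt bT.1) = pt bT.1
    rw [permOf_pt hvc hb, Nat.eq_of_beq_eq_true (h1 c hc)]
  intro g hg
  exact this hg

/-- **stabilizer**: the elements of `clo ((b, T) :: Lv)` fixing `b` are those of `clo Lv`. -/
theorem clo_stab {bT : ℕ × List ℕ} {Lv : Chain} (h : lvCheck (bT :: Lv) = true)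
    (h' : stCheck (bT :: Lv) = true) :
    ∀ g ∈ clo (bT :: Lv), g (pt bT.1) = pt bT.1 → g ∈ clo Lv := by
  intro g hg hgb
  obtain ⟨u, hu, hvu, k, hk, rfl⟩ := clo_factor h g hg
  have hkb := clo_fixes h h' k hk
  rw [stCheck_cons, band_eq, band_eq, Bool.and_eq_true, Bool.and_eq_true, Nat.blt_eq, allList_iff,
    allList_iff] at h'
  obtain ⟨hb, -, h2⟩ := h'
  rw [Equiv.Perm.mul_apply, hkb, permOf_pt hvu hb] at hgb
  have h3 : ent u bT.1 = bT.1 := by
    have := congrArg idx hgb
    rwa [idx_pt (ent_lt_of_valid hvu _ hb), idx_pt hb] at this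
  have h4 := h2 u hu
  rw [bor_eq, Bool.or_eq_true, bnot_eq_true] at h4
  rcases h4 with h4 | h4
  · rw [h3] at h4
    simp at h4
  · rw [permOf_eq_one h4, one_mul]
    exact hk

/-- the list of transversals of a chain. -/
def transOf (Lv : Chain) : List (List ℕ) := List.rec [] (fun bT _ ih => bT.2 :: ih) Lv

/-- certificate for all the levels. -/
def chainCheck (Lv : Chain) : Bool :=
  List.rec true (fun bT l ih => band (lvCheck (bT :: l)) (band (stCheck (bT :: l)) ih)) Lv

theorem chainCheck_cons (bT : ℕ × List ℕ) (l : Chain) : chainCheck (bT :: l) =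
    band (lvCheck (bT :: l)) (band (stCheck (bT :: l)) (chainCheck l)) := rfl

theorem chainCheck_cons_iff (bT : ℕ × List ℕ) (l : Chain) : chainCheck (bT :: l) = true ↔
    lvCheck (bT :: l) = true ∧ stCheck (bT :: l) = true ∧ chainCheck l = true := by
  rw [chainCheck_cons, band_eq, band_eq, Bool.and_eq_true, Bool.and_eq_true]

theorem covers_clo (Lv : Chain) : chainCheck Lv = true → Covers (transOf Lv) (clo Lv) := by
  induction Lv with
  | nil =>
    intro _
    apply Covers.nil
    intro g hg
    rw [clo_nil, Subgroup.mem_bot] at hg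
    exact hg
  | cons bT l ih =>
    intro h
    rw [chainCheck_cons_iff] at h
    exact Covers.cons (clo_factor h.1) (ih h.2.2)

end Cfsg.Agent.Lib.Helper86
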