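import Cfsg.Agent.Lib.Helper86.CodeChain

set_option autoImplicit false

/-!
# Orbits, invariant sets and normalizers for subgroups given by chains of codes (helper86)
-/

namespace Cfsg.Agent.Lib.Helper86

open Cfsg
open Cfsg.Agent.Lib.Helper27 Cfsg.Agent.Lib.Helper92
open scoped Pointwise

/-! ### invariant masks -/

/-- `unmask m` is invariant under every element of `N`. -/
def InvK (N : Subgroup PG) (m : ℕ) : Prop := m < 2 ^ 24 ∧ ∀ g ∈ N, g • unmask m = unmask m

theorem InvK.mono {N N' : Subgroup PG} {m : ℕ} (h : InvK N m) (hle : N' ≤ N) : InvK N' m :=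
  ⟨h.1, fun g hg => h.2 g (hle hg)⟩

theorem InvK.of_isInv {N : Subgroup PG} {L : List ℕ} {m : ℕ} (hle : N ≤ fixer L) (h : IsInv L m) :
    InvK N m := ⟨h.1, fun g hg => h.2 g (hle hg)⟩

theorem InvK.and {N : Subgroup PG} {a b : ℕ} (ha : InvK N a) (hb : InvK N b) : InvK N (a &&& b) :=
  ⟨lt_of_le_of_lt Nat.and_le_left ha.1, fun g hg => by
    rw [unmask_and, Finset.smul_finset_inter, ha.2 g hg, hb.2 g hg]⟩

theorem InvK.xor {N : Subgroup PG} {a b : ℕ} (ha : InvK N a) (hb : InvK N b) : InvK N (a ^^^ b) :=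
  ⟨Nat.xor_lt_two_pow ha.1 hb.1, fun g hg => by
    rw [unmask_xor ha.1 hb.1, smul_symmDiff, ha.2 g hg, hb.2 g hg]⟩

theorem invK_full (N : Subgroup PG) : InvK N 16777215 :=
  ⟨by norm_num, fun g _ => by rw [unmask_full, Finset.smul_finset_univ]⟩

theorem invK_pt {N : Subgroup PG} {b : ℕ} (hb : b < 24) (h : ∀ g ∈ N, g (pt b) = pt b) :
    InvK N (2 ^ b) :=
  ⟨Nat.pow_lt_pow_right (by norm_num) hb, fun g hg => (smul_unmask_two_pow hb g).2 (h g hg)⟩

theorem InvK.apply_mem {N : Subgroup PG} {A : ℕ} (hA : InvK N A) {p : GolayPt} (hp : p ∈ unmask A)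
    {g : PG} (hg : g ∈ N) : g p ∈ unmask A := by
  rw [← hA.2 g hg]
  exact Finset.smul_mem_smul_finset hp

/-! ### orbits -/

/-- `O` is the list of the masks of the orbits of `R`. -/
structure IsOrbits (R : Subgroup PG) (O : List ℕ) : Prop where
  lt : ∀ m ∈ O, m < 2 ^ 24
  inv : ∀ m ∈ O, ∀ r ∈ R, r • unmask m = unmask m
  trans : ∀ m ∈ O, ∀ x ∈ unmask m, ∀ y ∈ unmask m, ∃ r ∈ R, r x = y
  cover : ∀ p : GolayPt, ∃ m ∈ O, p ∈ unmask m

/-- the union of the masks. -/
def orAll (Ob : List (ℕ × ℕ)) : ℕ := List.rec 0 (fun bm _ ih => Nat.lor bm.2 ih) Ob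

theorem testBit_orAll (Ob : List (ℕ × ℕ)) (j : ℕ) :
    (orAll Ob).testBit j = true ↔ ∃ bm ∈ Ob, bm.2.testBit j = true := by
  induction Ob with
  | nil => simp [orAll]
  | cons bm l ih =>
    have h : orAll (bm :: l) = bm.2 ||| orAll l := rfl
    rw [h, Nat.testBit_or, Bool.or_eq_true, ih]
    simp

/-- the masks of a list of pointed masks. -/
def masksOf (Ob : List (ℕ × ℕ)) : List ℕ := Ob.map Prod.snd

/-- certificate: `Ob` lists the orbits (with a base point each) of the group generated by `gens`. -/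
def orbCheck (gens : List ℕ) (Ob : List (ℕ × ℕ)) : Bool :=
  band (allList (fun bm => band (Nat.blt bm.1 24)
      (band (Nat.beq (orbIter gens (Nat.pow 2 bm.1) 6) bm.2)
        (allList (fun c => Nat.beq (permMask c bm.2) bm.2) gens))) Ob)
    (Nat.beq (orAll Ob) 16777215)

theorem isOrbits_of_check {gens : List ℕ} {Ob : List (ℕ × ℕ)} (hv : allValid gens = true)
    (h : orbCheck gens Ob = true) : IsOrbits (cloL gens) (masksOf Ob) := by
  unfold orbCheck at h
  rw [band_eq, Bool.and_eq_true, allList_iff, Nat.beq_eq] at h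
  obtain ⟨h1, h2⟩ := h
  have hv' := (allValid_iff _).1 hv
  have key : ∀ bm ∈ Ob, bm.1 < 24 ∧ orbIter gens (2 ^ bm.1) 6 = bm.2 ∧
      ∀ c ∈ gens, permMask c bm.2 = bm.2 := by
    intro bm hbm
    have := h1 bm hbm
    rw [band_eq, band_eq, Bool.and_eq_true, Bool.and_eq_true, Nat.blt_eq, Nat.beq_eq,
      allList_iff] at this
    exact ⟨this.1, this.2.1, fun c hc => Nat.eq_of_beq_eq_true (this.2.2 c hc)⟩
  have hsound : ∀ bm ∈ Ob, bm.2 < 2 ^ 24 ∧
      ∀ q ∈ unmask bm.2, ∃ g ∈ cloL gens, g (pt bm.1) = q := by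
    intro bm hbm
    obtain ⟨hb, he, -⟩ := key bm hbm
    have := orbIter_sound (cloL gens) hb gens (fun c hc => ⟨hv' c hc, permOf_mem_cloL hc⟩) 6
    rwa [he] at this
  refine ⟨?_, ?_, ?_, ?_⟩
  · intro m hm
    obtain ⟨bm, hbm, rfl⟩ := List.mem_map.1 hm
    exact (hsound bm hbm).1
  · intro m hm
    obtain ⟨bm, hbm, rfl⟩ := List.mem_map.1 hm
    have : cloL gens ≤ MulAction.stabilizer PG (unmask bm.2) := by
      apply cloL_le
      intro c hc
      rw [MulAction.mem_stabilizer_iff, smul_unmask_permOf (hv' c hc) (hsound bm hbm).1,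
        (key bm hbm).2.2 c hc]
    intro r hr
    exact this hr
  · intro m hm x hx y hy
    obtain ⟨bm, hbm, rfl⟩ := List.mem_map.1 hm
    obtain ⟨g1, hg1, rfl⟩ := (hsound bm hbm).2 x hx
    obtain ⟨g2, hg2, rfl⟩ := (hsound bm hbm).2 y hy
    exact ⟨g2 * g1⁻¹, Subgroup.mul_mem _ hg2 (Subgroup.inv_mem _ hg1), by simp⟩
  · intro p
    have : (orAll Ob).testBit (idx p) = true := by
      rw [h2, show (16777215 : ℕ) = 2 ^ 24 - 1 from rfl, Nat.testBit_two_pow_sub_one]
      simp [idx_lt p]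
    obtain ⟨bm, hbm, hp⟩ := (testBit_orAll Ob _).1 this
    exact ⟨bm.2, List.mem_map.2 ⟨bm, hbm, rfl⟩, (mem_unmask _ _).2 hp⟩

/-- an element normalizing `R` permutes the orbits of `R`. -/
theorem IsOrbits.smul_eq {R : Subgroup PG} {O : List ℕ} (hO : IsOrbits R O) {g : PG}
    (hg : ∀ r ∈ R, g * r * g⁻¹ ∈ R) (hg' : ∀ r ∈ R, g⁻¹ * r * g ∈ R) {m : ℕ} (hm : m ∈ O)
    {x : GolayPt} (hx : x ∈ unmask m) : ∃ m' ∈ O, g • unmask m = unmask m' := by
  obtain ⟨m', hm', hgx⟩ := hO.cover (g x)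
  refine ⟨m', hm', ?_⟩
  ext q
  constructor
  · intro hq
    obtain ⟨y, hy, rfl⟩ := Finset.mem_smul_finset.1 hq
    obtain ⟨r, hr, rfl⟩ := hO.trans m hm x hx y hy
    have h1 := hO.inv m' hm' _ (hg r hr)
    rw [← h1]
    have : g • r x = (g * r * g⁻¹) • (g x) := by
      show g (r x) = (g * r * g⁻¹) (g x)
      simp
    rw [this]
    exact Finset.smul_mem_smul_finset hgx
  · intro hq
    obtain ⟨r, hr, rfl⟩ := hO.trans m' hm' _ hgx q hq
    have h1 := hO.inv m hm _ (hg' r hr)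
    have h2 : (g⁻¹ * r * g) x ∈ unmask m := by
      rw [← h1]
      exact Finset.smul_mem_smul_finset hx
    have : r (g x) = g • ((g⁻¹ * r * g) x) := by
      show r (g x) = g ((g⁻¹ * r * g) x)
      simp
    rw [this]
    exact Finset.smul_mem_smul_finset h2

/-- the union of the orbits of size `s` contained in `B`. -/
def unionSel (O : List ℕ) (B s : ℕ) : ℕ :=
  List.rec 0 (fun m _ ih =>
    Bool.rec ih (Nat.lor m ih) (band (Nat.beq (pc m) s) (Nat.beq (Nat.land m B) m))) O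

theorem unionSel_cons (m : ℕ) (l : List ℕ) (B s : ℕ) : unionSel (m :: l) B s =
    if pc m = s ∧ m &&& B = m then m ||| unionSel l B s else unionSel l B s := by
  have h : unionSel (m :: l) B s = Bool.rec (unionSel l B s) (Nat.lor m (unionSel l B s))
    (band (Nat.beq (pc m) s) (Nat.beq (Nat.land m B) m)) := rfl
  rw [h]
  by_cases hc : pc m = s ∧ m &&& B = m
  · have : band (Nat.beq (pc m) s) (Nat.beq (Nat.land m B) m) = true := by
      rw [band_eq, Bool.and_eq_true, Nat.beq_eq, Nat.beq_eq]; exact hc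
    rw [this, if_pos hc]; rfl
  · have : band (Nat.beq (pc m) s) (Nat.beq (Nat.land m B) m) = false := by
      rw [← Bool.not_eq_true, band_eq, Bool.and_eq_true, Nat.beq_eq, Nat.beq_eq]; exact hc
    rw [this, if_neg hc]

theorem mem_unmask_unionSel (O : List ℕ) (B s : ℕ) (p : GolayPt) :
    p ∈ unmask (unionSel O B s) ↔ ∃ m ∈ O, pc m = s ∧ m &&& B = m ∧ p ∈ unmask m := by
  induction O with
  | nil => simp [unionSel]
  | cons m l ih =>
    rw [unionSel_cons]
    by_cases hc : pc m = s ∧ m &&& B = m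
    · rw [if_pos hc, mem_unmask_or, ih]
      constructor
      · rintro (h | ⟨m', hm', h⟩)
        · exact ⟨m, List.mem_cons_self, hc.1, hc.2, h⟩
        · exact ⟨m', List.mem_cons_of_mem _ hm', h⟩
      · rintro ⟨m', hm', h⟩
        rcases List.mem_cons.1 hm' with rfl | hm'
        · exact Or.inl h.2.2
        · exact Or.inr ⟨m', hm', h⟩
    · rw [if_neg hc, ih]
      constructor
      · rintro ⟨m', hm', h⟩
        exact ⟨m', List.mem_cons_of_mem _ hm', h⟩
      · rintro ⟨m', hm', h⟩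
        rcases List.mem_cons.1 hm' with rfl | hm'
        · exact absurd ⟨h.1, h.2.1⟩ hc
        · exact ⟨m', hm', h⟩

theorem unionSel_lt (O : List ℕ) (B s : ℕ) (h : ∀ m ∈ O, m < 2 ^ 24) : unionSel O B s < 2 ^ 24 := by
  induction O with
  | nil => simp [unionSel]
  | cons m l ih =>
    have ih' := ih (fun m hm => h m (List.mem_cons_of_mem _ hm))
    rw [unionSel_cons]
    split
    · exact Nat.or_lt_two_pow (h m List.mem_cons_self) ih'
    · exact ih'

/-- **orbit rule**: if `N` normalizes `R`, the union of the `R`-orbits of a given size inside an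
`N`-invariant set is `N`-invariant. -/
theorem InvK.unionSel {N R : Subgroup PG} {O : List ℕ} (hnorm : ∀ g ∈ N, ∀ r ∈ R, g * r * g⁻¹ ∈ R)
    (hO : IsOrbits R O) {B : ℕ} (hB : InvK N B) (s : ℕ) : InvK N (unionSel O B s) := by
  refine ⟨unionSel_lt O B s hO.lt, fun g hg => ?_⟩
  apply Finset.eq_of_subset_of_card_le
  · intro q hq
    obtain ⟨p, hp, rfl⟩ := Finset.mem_smul_finset.1 hq
    obtain ⟨m, hm, h1, h2, hpm⟩ := (mem_unmask_unionSel O B s p).1 hp
    have hg' : ∀ r ∈ R, g⁻¹ * r * g ∈ R := by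
      intro r hr
      have := hnorm g⁻¹ (N.inv_mem hg) r hr
      rwa [inv_inv] at this
    obtain ⟨m', hm', he⟩ := hO.smul_eq (hnorm g hg) hg' hm hpm
    rw [mem_unmask_unionSel]
    refine ⟨m', hm', ?_, ?_, ?_⟩
    · rw [← card_unmask, ← he, Finset.card_smul_finset, card_unmask, h1]
    · have hsub : unmask m ⊆ unmask B := by
        rw [subset_iff_mask, mask_unmask (hO.lt m hm), mask_unmask hB.1]; exact h2
      have : unmask m' ⊆ unmask B := by
        rw [← he, ← hB.2 g hg]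
        exact Finset.smul_finset_subset_smul_finset hsub
      rwa [subset_iff_mask, mask_unmask (hO.lt m' hm'), mask_unmask hB.1] at this
    · rw [← he]
      exact Finset.smul_mem_smul_finset hpm
  · rw [Finset.card_smul_finset]

/-! ### lists of invariant masks -/

/-- all the masks of the list are invariant. -/
def AllInv (N : Subgroup PG) (cells : List ℕ) : Prop := ∀ m ∈ cells, InvK N m

/-- refinement of a list of invariant masks by orbit sizes. -/
def refineCells (O cells : List ℕ) : List ℕ :=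
  cells.flatMap (fun B => [unionSel O B 1, unionSel O B 2, unionSel O B 4, unionSel O B 8,
    unionSel O B 16])

theorem AllInv.refine {N R : Subgroup PG} {O cells : List ℕ}
    (hnorm : ∀ g ∈ N, ∀ r ∈ R, g * r * g⁻¹ ∈ R) (hO : IsOrbits R O) (h : AllInv N cells) :
    AllInv N (refineCells O cells) := by
  intro m hm
  obtain ⟨B, hB, hm⟩ := List.mem_flatMap.1 hm
  simp only [List.mem_cons, List.not_mem_nil, or_false] at hm
  rcases hm with rfl | rfl | rfl | rfl | rfl <;> exact InvK.unionSel hnorm hO (h B hB) _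

/-- splitting off a point. -/
def splitCells (b : ℕ) (cells : List ℕ) : List ℕ :=
  2 ^ b :: cells.map (fun B => B &&& (16777215 ^^^ 2 ^ b))

theorem AllInv.split {N N' : Subgroup PG} {cells : List ℕ} {b : ℕ} (hb : b < 24) (hle : N' ≤ N)
    (hfix : ∀ g ∈ N', g (pt b) = pt b) (h : AllInv N cells) : AllInv N' (splitCells b cells) := by
  intro m hm
  rcases List.mem_cons.1 hm with rfl | hm
  · exact invK_pt hb hfix
  · obtain ⟨B, hB, rfl⟩ := List.mem_map.1 hm
    exact ((h B hB).mono hle).and ((invK_full N').xor (invK_pt hb hfix))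

theorem AllInv.sub {N : Subgroup PG} {big small : List ℕ} (h : AllInv N big)
    (hc : allList (fun m => anyList (Nat.beq m) big) small = true) : AllInv N small := by
  rw [allList_iff] at hc
  intro m hm
  obtain ⟨m', hm', he⟩ := (anyList_iff _ _).1 (hc m hm)
  rw [Nat.beq_eq] at he
  rw [he]
  exact h m' hm'

/-- the union of the one-point masks of the list. -/
def fixedMask (cells : List ℕ) : ℕ :=
  List.rec 0 (fun m _ ih => Bool.rec ih (Nat.lor m ih) (Nat.beq (pc m) 1)) cells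

theorem AllInv.fixes {N : Subgroup PG} {cells : List ℕ} (h : AllInv N cells) :
    ∀ g ∈ N, ∀ p ∈ unmask (fixedMask cells), g p = p := by
  induction cells with
  | nil =>
    intro g _ p hp
    simp [fixedMask] at hp
  | cons m l ih =>
    intro g hg p hp
    have ih' := ih (fun m hm => h m (List.mem_cons_of_mem _ hm)) g hg p
    have e : fixedMask (m :: l) = Bool.rec (fixedMask l) (Nat.lor m (fixedMask l)) (Nat.beq (pc m) 1) :=
      rfl
    by_cases hc : pc m = 1
    · have : Nat.beq (pc m) 1 = true := by rw [Nat.beq_eq]; exact hc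
      rw [e, this] at hp
      rcases (mem_unmask_or _ _ _).1 hp with hp | hp
      · rw [← card_unmask, Finset.card_eq_one] at hc
        obtain ⟨q, hq⟩ := hc
        have h1 := (h m List.mem_cons_self).apply_mem hp hg
        rw [hq, Finset.mem_singleton] at h1 hp
        rw [h1, hp]
      · exact ih' hp
    · have : Nat.beq (pc m) 1 = false := by
        rw [← Bool.not_eq_true, Nat.beq_eq]; exact hc
      rw [e, this] at hp
      exact ih' hp

/-! ### the normalizer chain -/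

/-- `K ≤ N` and `N` normalizes `K`. -/
structure NState (N K : Subgroup PG) : Prop where
  le : K ≤ N
  norm : ∀ g ∈ N, ∀ r ∈ K, g * r * g⁻¹ ∈ K

/-- the stabilizer of the point of index `b`. -/
def stabPt (b : ℕ) : Subgroup PG := MulAction.stabilizer PG (pt b)

theorem mem_stabPt {b : ℕ} {g : PG} : g ∈ stabPt b ↔ g (pt b) = pt b := Iff.rfl

theorem inf_stabPt_fixes (N : Subgroup PG) (b : ℕ) : ∀ g ∈ N ⊓ stabPt b, g (pt b) = pt b :=
  fun _ hg => hg.2

theorem NState.step {N : Subgroup PG} {bT : ℕ × List ℕ} {Lv : Chain} (h : NState N (clo (bT :: Lv)))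
    (h1 : lvCheck (bT :: Lv) = true) (h2 : stCheck (bT :: Lv) = true) :
    NState (N ⊓ stabPt bT.1) (clo Lv) := by
  refine ⟨?_, ?_⟩
  · intro r hr
    exact ⟨h.le (clo_le_cons _ _ hr), clo_fixes h1 h2 r hr⟩
  · rintro g ⟨hg, hgb⟩ r hr
    apply clo_stab h1 h2 _ (h.norm g hg r (clo_le_cons _ _ hr))
    have hgb' : g (pt bT.1) = pt bT.1 := hgb
    have h3 : g⁻¹ (pt bT.1) = pt bT.1 := by
      rw [Equiv.Perm.inv_eq_iff_eq, hgb']
    rw [Equiv.Perm.mul_apply, Equiv.Perm.mul_apply, h3, clo_fixes h1 h2 r hr, hgb']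

theorem NState.le_of_step {N S₀ : Subgroup PG} {bT : ℕ × List ℕ} {Lv : Chain} {O : List ℕ} {X : ℕ}
    (h : NState N (clo (bT :: Lv))) (hO : IsOrbits (clo (bT :: Lv)) O) (hXO : X ∈ O)
    (hX : InvK N X) (hb : bT.1 < 24) (hbX : X.testBit bT.1 = true) (hK : clo (bT :: Lv) ≤ S₀)
    (hN' : N ⊓ stabPt bT.1 ≤ S₀) : N ≤ S₀ := by
  intro g hg
  have hbX' : pt bT.1 ∈ unmask X := by rw [mem_unmask, idx_pt hb]; exact hbX
  obtain ⟨r, hr, hrb⟩ := hO.trans X hXO _ hbX' _ (hX.apply_mem hbX' hg)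
  have h1 : r⁻¹ * g ∈ N ⊓ stabPt bT.1 := by
    refine ⟨N.mul_mem (N.inv_mem (h.le hr)) hg, ?_⟩
    show (r⁻¹ * g) (pt bT.1) = pt bT.1
    rw [Equiv.Perm.mul_apply, Equiv.Perm.inv_eq_iff_eq, hrb]
  have h2 := S₀.mul_mem (hK hr) (hN' h1)
  rwa [mul_inv_cancel_left] at h2

/-- orbit–stabilizer for one level. -/
theorem card_clo_cons {bT : ℕ × List ℕ} {Lv : Chain} {O : List ℕ} {X : ℕ}
    (h1 : lvCheck (bT :: Lv) = true) (h2 : stCheck (bT :: Lv) = true)
    (hO : IsOrbits (clo (bT :: Lv)) O) (hXO : X ∈ O) (hb : bT.1 < 24)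
    (hbX : X.testBit bT.1 = true) :
    Nat.card (clo (bT :: Lv)) = pc X * Nat.card (clo Lv) := by
  have hbX' : pt bT.1 ∈ unmask X := by rw [mem_unmask, idx_pt hb]; exact hbX
  have e1 := Subgroup.card_mul_index (MulAction.stabilizer (clo (bT :: Lv)) (pt bT.1))
  rw [MulAction.index_stabilizer] at e1
  have e2 : MulAction.orbit (clo (bT :: Lv)) (pt bT.1) = (unmask X : Set GolayPt) := by
    ext q
    constructor
    · rintro ⟨g, rfl⟩
      have := hO.inv X hXO g.1 g.2
      show g.1 (pt bT.1) ∈ unmask X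
      rw [← this]
      exact Finset.smul_mem_smul_finset hbX'
    · intro hq
      obtain ⟨g, hg, rfl⟩ := hO.trans X hXO _ hbX' q hq
      exact ⟨⟨g, hg⟩, rfl⟩
  rw [e2, Set.ncard_coe_finset, card_unmask] at e1
  have e3 : Nat.card (MulAction.stabilizer (clo (bT :: Lv)) (pt bT.1)) = Nat.card (clo Lv) := by
    apply Nat.card_congr
    refine ⟨fun g => ⟨g.1.1, clo_stab h1 h2 g.1.1 g.1.2 g.2⟩,
      fun g => ⟨⟨g.1, clo_le_cons _ _ g.2⟩, clo_fixes h1 h2 g.1 g.2⟩, fun _ => rfl, fun _ => rfl⟩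
  rw [← e1, e3, Nat.mul_comm]

/-- the starting state: the normalizer of `S₀` in `G`. -/
theorem nstate_start {G S₀ : Subgroup PG} (hle : S₀ ≤ G) :
    NState (G ⊓ Subgroup.normalizer (S₀ : Set PG)) S₀ :=
  ⟨fun _ hr => ⟨hle hr, Subgroup.le_normalizer hr⟩,
    fun g hg r hr => (Subgroup.mem_normalizer_iff.1 hg.2 r).1 hr⟩

/-- an element mapping the finite subgroup `S₀` into itself by conjugation normalizes it. -/
theorem mem_normalizer_of_conj_le {S₀ : Subgroup PG} {g : PG} (h : ∀ s ∈ S₀, g * s * g⁻¹ ∈ S₀) :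
    g ∈ Subgroup.normalizer (S₀ : Set PG) := by
  rw [Subgroup.mem_normalizer_iff]
  intro x
  refine ⟨h x, fun hx => ?_⟩
  let f : S₀ → S₀ := fun s => ⟨g * s * g⁻¹, h s s.2⟩
  have hf : Function.Injective f := by
    intro a b hab
    have : g * a * g⁻¹ = g * b * g⁻¹ := congrArg Subtype.val hab
    exact Subtype.ext (mul_left_cancel (mul_right_cancel this))
  obtain ⟨s, hs⟩ := Finite.surjective_of_injective hf ⟨_, hx⟩
  have : g * s * g⁻¹ = g * x * g⁻¹ := congrArg Subtype.val hs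
  rw [← mul_left_cancel (mul_right_cancel this)]
  exact s.2

end Cfsg.Agent.Lib.Helper86
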