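import Cfsg.Agent.Lib.Helper86.Quot
import Cfsg.Agent.Lib.Helper85.FusMorph
import Cfsg.Agent.S5132
import Cfsg.Agent.S5134

set_option autoImplicit false

/-! Lifting maps of a saturated system modulo a strongly closed subgroup (helper86). -/

namespace Cfsg.Agent.Lib.Helper86

open Cfsg Cfsg.FusionSystem Cfsg.Agent.Lib.Helper84 Cfsg.Agent.Lib.Helper85 Cfsg.Agent.Lib.Helper87

variable {Ω : Type*} [Group Ω] {S : Subgroup Ω} [Finite S] {p : ℕ} [Fact p.Prime]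

/-- Every map of a saturated system with source `P` agrees modulo the strongly closed subgroup `T` with a
map with source `P T`. -/
theorem exists_lift_mod (hS : IsPGroup p S) (F : FusionSystem S) (hF : F.IsSaturated p)
    {T : Subgroup Ω} (hT : F.StronglyClosed T) {P : Subgroup Ω} {φ : P →* Ω} (hφ : φ ∈ F.Hom P) :
    ∃ ψ ∈ F.Hom (P ⊔ T), ∀ x : P, (φ x)⁻¹ * ψ (Subgroup.inclusion le_sup_left x) ∈ T := by
  have hn : (T.subgroupOf S).Normal := normal_subgroupOf_of_stronglyClosed hT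
  obtain ⟨E, hE⟩ := Cfsg.Agent.S5132.result p hS F T hT
  set θ := QuotientGroup.mk' (T.subgroupOf S) with hθ
  have hmor := (Cfsg.Agent.S5134.result p hS F hF T hT θ E hE).1
  obtain ⟨φ', hφ', hPS, hφS, hP', hind⟩ := hmor.2 P φ hφ
  obtain ⟨-, ψ₀, hψ₀, hPS₀, hψS₀, hP₀', hind₀⟩ := (hE.2.2.2 _ φ').mp hφ'
  have hle : P ⊔ T ≤ preimageAlong θ (imageAlong θ P) :=
    sup_le (le_preimage_image θ hPS) (le_preimageAlong_of_ker hE.1 hE.2.1 _)
  refine ⟨ψ₀.comp (Subgroup.inclusion hle), Cfsg.Agent.Lib.Helper85.restrict_mem F hψ₀ hle, ?_⟩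
  intro x
  have hx₀ : (x : Ω) ∈ preimageAlong θ (imageAlong θ P) := hle (Subgroup.mem_sup_left x.2)
  have h1 := hind x
  have h2 := hind₀ ⟨x, hx₀⟩
  have h3 : θ ⟨φ x, hφS x⟩ = θ ⟨ψ₀ ⟨x, hx₀⟩, hψS₀ ⟨x, hx₀⟩⟩ := by
    rw [← h1, ← h2]
  have h4 : θ (⟨φ x, hφS x⟩⁻¹ * ⟨ψ₀ ⟨x, hx₀⟩, hψS₀ ⟨x, hx₀⟩⟩) = 1 := by
    rw [map_mul, map_inv, h3, inv_mul_cancel]
  exact (hE.2.1 _).mp h4

end Cfsg.Agent.Lib.Helper86
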