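import Cfsg.Agent.Lib.Helper86.Lift
import Cfsg.Agent.Lib.Helper86.ResidualRel
import Cfsg.Agent.Lib.Helper84.FusionSat

set_option autoImplicit false

/-! Transfer of `O^p(Aut_F(P))` to `O^p(Aut_F(P T))` and `O^p(Aut_F(T))` for `T` strongly closed (helper86). -/

namespace Cfsg.Agent.Lib.Helper86

open Cfsg Cfsg.FusionSystem Cfsg.Agent.Lib.Helper84 Cfsg.Agent.Lib.Helper85 Cfsg.Agent.Lib.Helper87

variable {Ω : Type*} [Group Ω] {S : Subgroup Ω}

/-- A map of the system from `Q` into `Q` is an automorphism in `Aut_F(Q)`. -/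
theorem exists_aut_of_hom_self [Finite S] (F : FusionSystem S) {Q : Subgroup Ω} {φ : Q →* Ω}
    (hφ : φ ∈ F.Hom Q) (h : ∀ x, φ x ∈ Q) :
    ∃ β ∈ F.autGroup Q, ∀ x : Q, ((β x : Q) : Ω) = φ x := by
  have hQ : Q ≤ S := (F.le_of_mem hφ).1
  have hfin : Finite Q := finite_of_le hQ
  have hinj : Function.Injective (φ.codRestrict Q h) := by
    intro a b hab
    apply F.injective_of_mem hφ
    exact congrArg Subtype.val hab
  have hbij : Function.Bijective (φ.codRestrict Q h) := Finite.injective_iff_bijective.mp hinj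
  refine ⟨MulEquiv.ofBijective (φ.codRestrict Q h) hbij, ?_, fun x => rfl⟩
  rw [mem_autGroup_iff F hQ]
  exact mor_of_mem F hφ h

/-- The relation "agree modulo `T`" between `Aut_F(P)` and `Aut_F(P T)`. -/
def relModSC (F : FusionSystem S) {T : Subgroup Ω} (hT : F.StronglyClosed T) {P : Subgroup Ω}
    (hP : P ≤ S) : Subgroup (↥(F.autGroup P) × ↥(F.autGroup (P ⊔ T))) where
  carrier := {w | ∀ x : P, (((w.1 : MulAut P) x : P) : Ω)⁻¹ *
    (((w.2 : MulAut ↥(P ⊔ T)) (Subgroup.inclusion le_sup_left x) : ↥(P ⊔ T)) : Ω) ∈ T}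
  one_mem' := by
    intro x
    simp [T.one_mem]
  mul_mem' := by
    intro w w' hw hw' x
    have hPT : P ⊔ T ≤ S := sup_le hP hT.1
    have h1 := hw' x
    have h2 := hw ((w'.1 : MulAut P) x)
    set x' := (w'.1 : MulAut P) x with hx'
    set t' : ↥(P ⊔ T) := (Subgroup.inclusion le_sup_left x')⁻¹ *
      (w'.2 : MulAut ↥(P ⊔ T)) (Subgroup.inclusion le_sup_left x) with ht'
    have ht'T : (t' : Ω) ∈ T := h1
    have h3 : (((w.2 : MulAut ↥(P ⊔ T)) t' : ↥(P ⊔ T)) : Ω) ∈ T :=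
      sc_map_mem hT ((mem_autGroup_iff F hPT _).mp w.2.2) t' ht'T
    have h4 : (w'.2 : MulAut ↥(P ⊔ T)) (Subgroup.inclusion le_sup_left x) =
        Subgroup.inclusion le_sup_left x' * t' := by
      rw [ht', mul_inv_cancel_left]
    show ((((w.1 : MulAut P) * (w'.1 : MulAut P)) x : P) : Ω)⁻¹ *
      ((((w.2 : MulAut ↥(P ⊔ T)) * (w'.2 : MulAut ↥(P ⊔ T)))
        (Subgroup.inclusion le_sup_left x) : ↥(P ⊔ T)) : Ω) ∈ T
    rw [MulAut.mul_apply, MulAut.mul_apply, h4, map_mul, Subgroup.coe_mul, ← mul_assoc]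
    exact T.mul_mem h2 h3
  inv_mem' := by
    intro w hw x
    have hPT : P ⊔ T ≤ S := sup_le hP hT.1
    set x' := (w.1 : MulAut P)⁻¹ x with hx'
    have h1 := hw x'
    have hxx' : (w.1 : MulAut P) x' = x := by rw [hx']; simp
    rw [hxx'] at h1
    set t' : ↥(P ⊔ T) := (Subgroup.inclusion le_sup_left x)⁻¹ *
      (w.2 : MulAut ↥(P ⊔ T)) (Subgroup.inclusion le_sup_left x') with ht'
    have ht'T : (t' : Ω) ∈ T := h1
    have h3 : (((w.2 : MulAut ↥(P ⊔ T))⁻¹ t' : ↥(P ⊔ T)) : Ω) ∈ T :=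
      sc_map_mem hT ((mem_autGroup_iff F hPT _).mp (w.2⁻¹).2) t' ht'T
    have h4 : (w.2 : MulAut ↥(P ⊔ T))⁻¹ t' =
        ((w.2 : MulAut ↥(P ⊔ T))⁻¹ (Subgroup.inclusion le_sup_left x))⁻¹ *
          Subgroup.inclusion le_sup_left x' := by
      rw [ht', map_mul, map_inv]
      simp
    show (((w.1 : MulAut P)⁻¹ x : P) : Ω)⁻¹ *
      (((w.2 : MulAut ↥(P ⊔ T))⁻¹ (Subgroup.inclusion le_sup_left x) : ↥(P ⊔ T)) : Ω) ∈ T
    have h5 := T.inv_mem h3
    rw [h4] at h5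
    have h6 : ((((w.2 : MulAut ↥(P ⊔ T))⁻¹ (Subgroup.inclusion le_sup_left x))⁻¹ *
          Subgroup.inclusion le_sup_left x' : ↥(P ⊔ T)) : Ω)⁻¹ = (x' : Ω)⁻¹ *
      (((w.2 : MulAut ↥(P ⊔ T))⁻¹ (Subgroup.inclusion le_sup_left x) : ↥(P ⊔ T)) : Ω) := by
      rw [Subgroup.coe_mul, Subgroup.coe_inv, mul_inv_rev, inv_inv]
      rfl
    rw [h6] at h5
    exact h5

theorem mem_relModSC (F : FusionSystem S) {T : Subgroup Ω} (hT : F.StronglyClosed T) {P : Subgroup Ω}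
    (hP : P ≤ S) (w : ↥(F.autGroup P) × ↥(F.autGroup (P ⊔ T))) :
    w ∈ relModSC F hT hP ↔ ∀ x : P, (((w.1 : MulAut P) x : P) : Ω)⁻¹ *
    (((w.2 : MulAut ↥(P ⊔ T)) (Subgroup.inclusion le_sup_left x) : ↥(P ⊔ T)) : Ω) ∈ T := Iff.rfl

/-- The relation "restricts to" between `Aut_F(Q)` and `Aut_F(T)`, for `T ≤ Q`. -/
def relRestrict (F : FusionSystem S) {T Q : Subgroup Ω} (hTQ : T ≤ Q) :
    Subgroup (↥(F.autGroup Q) × ↥(F.autGroup T)) where
  carrier := {w | ∀ t : T, (((w.2 : MulAut T) t : T) : Ω) =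
    (((w.1 : MulAut Q) (Subgroup.inclusion hTQ t) : Q) : Ω)}
  one_mem' := by
    intro t
    simp
  mul_mem' := by
    intro w w' hw hw' t
    have h1 := hw' t
    have h2 := hw ((w'.2 : MulAut T) t)
    have h3 : Subgroup.inclusion hTQ ((w'.2 : MulAut T) t) =
        (w'.1 : MulAut Q) (Subgroup.inclusion hTQ t) := Subtype.ext h1
    show ((((w.2 : MulAut T) * (w'.2 : MulAut T)) t : T) : Ω) =
      ((((w.1 : MulAut Q) * (w'.1 : MulAut Q)) (Subgroup.inclusion hTQ t) : Q) : Ω)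
    rw [MulAut.mul_apply, MulAut.mul_apply, h2, h3]
  inv_mem' := by
    intro w hw t
    have h1 := hw ((w.2 : MulAut T)⁻¹ t)
    have h2 : (w.2 : MulAut T) ((w.2 : MulAut T)⁻¹ t) = t := by simp
    rw [h2] at h1
    have h3 : Subgroup.inclusion hTQ t =
        (w.1 : MulAut Q) (Subgroup.inclusion hTQ ((w.2 : MulAut T)⁻¹ t)) := Subtype.ext h1
    show (((w.2 : MulAut T)⁻¹ t : T) : Ω) = (((w.1 : MulAut Q)⁻¹ (Subgroup.inclusion hTQ t) : Q) : Ω)
    rw [h3]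
    simp

theorem mem_relRestrict (F : FusionSystem S) {T Q : Subgroup Ω} (hTQ : T ≤ Q)
    (w : ↥(F.autGroup Q) × ↥(F.autGroup T)) :
    w ∈ relRestrict F hTQ ↔ ∀ t : T, (((w.2 : MulAut T) t : T) : Ω) =
    (((w.1 : MulAut Q) (Subgroup.inclusion hTQ t) : Q) : Ω) := Iff.rfl

section
variable [Finite S] {p : ℕ} [Fact p.Prime]

theorem relModSC_total (hS : IsPGroup p S) (F : FusionSystem S) (hF : F.IsSaturated p)
    {T : Subgroup Ω} (hT : F.StronglyClosed T) {P : Subgroup Ω} (hP : P ≤ S)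
    (α : ↥(F.autGroup P)) : ∃ β : ↥(F.autGroup (P ⊔ T)), (α, β) ∈ relModSC F hT hP := by
  have hα := (mem_autGroup_iff F hP _).mp α.2
  obtain ⟨ψ, hψ, hψ'⟩ := exists_lift_mod hS F hF hT hα
  have hself : ∀ x, ψ x ∈ P ⊔ T := by
    intro x
    have := map_sup_mem (P' := P ⊔ T) (Q' := T) ψ ?_ ?_ x
    · rwa [sup_assoc, sup_idem] at this
    · intro x
      have h1 := hψ' x
      have h2 : ψ (Subgroup.inclusion le_sup_left x) =
          (((α : MulAut P) x : P) : Ω) * ((((α : MulAut P) x : P) : Ω)⁻¹ *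
            ψ (Subgroup.inclusion le_sup_left x)) := by rw [mul_inv_cancel_left]
      rw [h2]
      exact (P ⊔ T).mul_mem (Subgroup.mem_sup_left ((α : MulAut P) x).2) (Subgroup.mem_sup_right h1)
    · intro t
      exact sc_map_mem hT hψ _ t.2
  obtain ⟨β, hβ, hβ'⟩ := exists_aut_of_hom_self F hψ hself
  refine ⟨⟨β, hβ⟩, ?_⟩
  intro x
  show (((α : MulAut P) x : P) : Ω)⁻¹ * ((β (Subgroup.inclusion le_sup_left x) : ↥(P ⊔ T)) : Ω) ∈ T
  rw [hβ']
  exact hψ' x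

omit [Fact p.Prime] in
theorem relRestrict_total (F : FusionSystem S) {T : Subgroup Ω} (hT : F.StronglyClosed T)
    {Q : Subgroup Ω} (hTQ : T ≤ Q) (hQ : Q ≤ S) (β : ↥(F.autGroup Q)) :
    ∃ γ : ↥(F.autGroup T), (β, γ) ∈ relRestrict F hTQ := by
  have hβ := (mem_autGroup_iff F hQ _).mp β.2
  have h1 := Cfsg.Agent.Lib.Helper84.restrict_mem F hβ hTQ
  obtain ⟨γ, hγ, hγ'⟩ := exists_aut_of_hom_self F h1 (fun t => sc_map_mem hT hβ _ t.2)
  exact ⟨⟨γ, hγ⟩, fun t => hγ' t⟩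

/-- For `α ∈ O^p(Aut_F(P))` there are `β ∈ O^p(Aut_F(P T))` agreeing with `α` modulo `T` and
`γ ∈ O^p(Aut_F(T))` with `γ = β|_T`. -/
theorem exists_lift_pResidual (hS : IsPGroup p S) (F : FusionSystem S) (hF : F.IsSaturated p)
    {T : Subgroup Ω} (hT : F.StronglyClosed T) {P : Subgroup Ω} (hP : P ≤ S)
    {α : ↥(F.autGroup P)} (hα : α ∈ pResidual p ↥(F.autGroup P)) :
    ∃ β ∈ pResidual p ↥(F.autGroup (P ⊔ T)), ∃ γ ∈ pResidual p ↥(F.autGroup T),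
      (∀ x : P, (((α : MulAut P) x : P) : Ω)⁻¹ *
        (((β : MulAut ↥(P ⊔ T)) (Subgroup.inclusion le_sup_left x) : ↥(P ⊔ T)) : Ω) ∈ T) ∧
      ∀ t : T, (((γ : MulAut T) t : T) : Ω) =
        (((β : MulAut ↥(P ⊔ T)) (Subgroup.inclusion le_sup_right t) : ↥(P ⊔ T)) : Ω) := by
  have hPT : P ⊔ T ≤ S := sup_le hP hT.1
  have f1 := finite_autGroup F hP
  have f2 := finite_autGroup F hPT
  have f3 := finite_autGroup F hT.1
  obtain ⟨β, hβ, hαβ⟩ := exists_mem_pResidual_of_rel p (relModSC F hT hP)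
    (relModSC_total hS F hF hT hP) hα
  obtain ⟨γ, hγ, hβγ⟩ := exists_mem_pResidual_of_rel p (relRestrict F (le_sup_right : T ≤ P ⊔ T))
    (relRestrict_total F hT le_sup_right hPT) hβ
  exact ⟨β, hβ, γ, hγ, hαβ, hβγ⟩

end

end Cfsg.Agent.Lib.Helper86
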