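import Mathlib
import Cfsg.Prelude.Def_OddOrderLocal

/-!
# MC-A: a metacyclic `p`-group of the form `C_{p^n} × C_{p^n} × H` has `H = 1`
-/

set_option autoImplicit false

namespace Cfsg.Agent.Lib.Helper86.MC

open Subgroup

theorem metacyclic_congr {X Y : Type*} [Group X] [Group Y] (e : X ≃* Y)
    (h : Cfsg.IsMetacyclic X) : Cfsg.IsMetacyclic Y := by
  obtain ⟨N, hN, hc, hq⟩ := h
  have hN' : (N.map e.toMonoidHom).Normal := hN.map _ e.surjective
  refine ⟨N.map e.toMonoidHom, hN', ?_, ?_⟩
  · exact isCyclic_of_surjective (e.subgroupMap N) (e.subgroupMap N).surjective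
  · let f := QuotientGroup.congr N (N.map e.toMonoidHom) e rfl
    exact isCyclic_of_surjective f f.surjective

theorem card_le_of_pow {C : Type*} [Group C] [Finite C] [IsCyclic C] (K : Subgroup C) {p : ℕ}
    (hp : 0 < p) (hK : ∀ y ∈ K, y ^ p = 1) : Nat.card K ≤ p := by
  obtain ⟨g, hg⟩ := IsCyclic.exists_generator (α := K)
  rw [← orderOf_eq_card_of_forall_mem_zpowers hg]
  apply Nat.le_of_dvd hp
  apply orderOf_dvd_of_pow_eq_one
  apply Subtype.ext
  simpa using hK g g.2

theorem card_ker_pow_le {Y : Type*} [CommGroup Y] [Finite Y] (hm : Cfsg.IsMetacyclic Y) {p : ℕ}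
    (hp : 0 < p) : Nat.card (powMonoidHom p : Y →* Y).ker ≤ p * p := by
  obtain ⟨N, hN, hc, hq⟩ := hm
  set W := (powMonoidHom p : Y →* Y).ker with hW
  have hWp : ∀ w ∈ W, w ^ p = 1 := fun w hw => hw
  let f : W →* Y ⧸ N := (QuotientGroup.mk' N).comp W.subtype
  have h1 : Nat.card f.ker * Nat.card f.range = Nat.card W := by
    rw [← Subgroup.index_ker f]; exact Subgroup.card_mul_index f.ker
  have h2 : Nat.card f.range ≤ p := by
    apply card_le_of_pow _ hp
    rintro _ ⟨w, rfl⟩
    rw [← map_pow]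
    have : w ^ p = 1 := Subtype.ext (by simpa using hWp w w.2)
    rw [this, map_one]
  have h3 : Nat.card f.ker ≤ p := by
    have hmem : ∀ w : f.ker, ((w : W) : Y) ∈ N := by
      intro w
      have := w.2
      rw [MonoidHom.mem_ker] at this
      exact (QuotientGroup.eq_one_iff _).mp this
    let g : f.ker →* N :=
      { toFun := fun w => ⟨((w : W) : Y), hmem w⟩
        map_one' := rfl
        map_mul' := fun a b => rfl }
    have hg : Function.Injective g := by
      intro a b hab
      have : ((a : W) : Y) = ((b : W) : Y) := congrArg (fun v : N => (v : Y)) hab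
      exact Subtype.ext (Subtype.ext this)
    rw [Nat.card_congr (MonoidHom.ofInjective hg).toEquiv]
    apply card_le_of_pow _ hp
    rintro _ ⟨w, rfl⟩
    apply Subtype.ext
    show (((w : W) : Y)) ^ p = 1
    exact hWp _ (w : W).2
  rw [← h1]
  exact Nat.mul_le_mul h3 h2

theorem homocyclic_of_metacyclic {p : ℕ} [Fact p.Prime] {X : Type*} [Group X] [Finite X]
    (hX : IsPGroup p X) (hm : Cfsg.IsMetacyclic X) (n : ℕ) (hn : 0 < n) (H : Type) [CommGroup H]
    (e : X ≃* (Multiplicative (ZMod (p ^ n)) × Multiplicative (ZMod (p ^ n))) × H) :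
    Nonempty (X ≃* Multiplicative (ZMod (p ^ n)) × Multiplicative (ZMod (p ^ n))) := by
  have hpP : p.Prime := Fact.out
  have : NeZero (p ^ n) := ⟨(pow_pos hpP.pos n).ne'⟩
  set M := Multiplicative (ZMod (p ^ n)) with hM
  have hfY : Finite ((M × M) × H) := Finite.of_equiv X e.toEquiv
  have hfH : Finite H := Finite.of_surjective (fun y : (M × M) × H => y.2) (fun h => ⟨(1, h), rfl⟩)
  have hmY : Cfsg.IsMetacyclic ((M × M) × H) := metacyclic_congr e hm
  have hub := card_ker_pow_le hmY hpP.pos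
  suffices hsub : Subsingleton H by
    have : Unique H := ⟨⟨1⟩, fun a => Subsingleton.elim _ _⟩
    exact ⟨e.trans MulEquiv.prodUnique⟩
  by_contra hns
  rw [not_subsingleton_iff_nontrivial] at hns
  -- H is a nontrivial p-group
  have hY : IsPGroup p ((M × M) × H) := hX.of_equiv e
  have hHp : IsPGroup p H :=
    hY.of_surjective (MonoidHom.snd (M × M) H) (fun h => ⟨(1, h), rfl⟩)
  have hpH : p ∣ Nat.card H := by
    obtain ⟨k, hk⟩ := IsPGroup.iff_card.mp hHp
    have hk0 : k ≠ 0 := by
      rintro rfl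
      rw [pow_zero] at hk
      have := Finite.one_lt_card (α := H)
      omega
    rw [hk]; exact dvd_pow_self p hk0
  obtain ⟨h, hh⟩ := exists_prime_orderOf_dvd_card' p hpH
  have hpM : p ∣ Nat.card M := by
    rw [hM, Nat.card_eq_fintype_card, Fintype.card_multiplicative, ZMod.card]
    exact dvd_pow_self p hn.ne'
  obtain ⟨z, hz⟩ := exists_prime_orderOf_dvd_card' p hpM
  let K : Subgroup ((M × M) × H) := ((zpowers z).prod (zpowers z)).prod (zpowers h)
  have hKle : K ≤ (powMonoidHom p : (M × M) × H →* (M × M) × H).ker := by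
    rintro ⟨⟨a, b⟩, c⟩ ⟨⟨ha, hb⟩, hc⟩
    have key : ∀ {Γ : Type} [Group Γ] (u v : Γ), orderOf u = p → v ∈ zpowers u → v ^ p = 1 := by
      intro Γ _ u v hu hv
      obtain ⟨k, rfl⟩ := mem_zpowers_iff.mp hv
      rw [← zpow_natCast, ← zpow_mul, mul_comm, zpow_mul, zpow_natCast, ← hu, pow_orderOf_eq_one,
        one_zpow]
    rw [MonoidHom.mem_ker]
    show ((a, b), c) ^ p = 1
    have ha' : a ^ p = 1 := key z a hz ha
    have hb' : b ^ p = 1 := key z b hz hb
    have hc' : c ^ p = 1 := key h c hh hc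
    ext <;> simp [ha', hb', hc']
  have hKcard : Nat.card K = p * p * p := by
    have e1 := Nat.card_congr (Subgroup.prodEquiv ((zpowers z).prod (zpowers z)) (zpowers h)).toEquiv
    have e2 := Nat.card_congr (Subgroup.prodEquiv (zpowers z) (zpowers z)).toEquiv
    rw [Nat.card_prod] at e1 e2
    rw [e1, e2, Nat.card_zpowers, Nat.card_zpowers, hz, hh]
  have := Subgroup.card_le_of_le hKle
  rw [hKcard] at this
  have h2 := hpP.two_le
  nlinarith [Nat.mul_le_mul h2 (Nat.mul_le_mul h2 h2)]

end Cfsg.Agent.Lib.Helper86.MC
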