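import Cfsg.Agent.S1447
import Cfsg.Agent.Lib.Helper88.SSMain

/-!
# MC-B: a `p'`-group of automorphisms of a nonabelian metacyclic `p`-group (`p` odd) is abelian
of exponent dividing `p - 1`.
-/

set_option autoImplicit false

namespace Cfsg.Agent.Lib.Helper86.MC

open Subgroup
open scoped commutatorElement

theorem isMetacyclic_of_equiv {X Y : Type*} [Group X] [Group Y] (e : X ≃* Y)
    (h : Cfsg.IsMetacyclic X) : Cfsg.IsMetacyclic Y := by
  obtain ⟨N, hN, hc, hq⟩ := h
  have hN' : (N.map e.toMonoidHom).Normal := hN.map _ e.surjective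
  refine ⟨N.map e.toMonoidHom, hN', ?_, ?_⟩
  · exact isCyclic_of_surjective (e.subgroupMap N) (e.subgroupMap N).surjective
  · let f := QuotientGroup.congr N (N.map e.toMonoidHom) e rfl
    exact isCyclic_of_surjective f f.surjective

/-- `⁅R, A⁆` is normalized by `R` -/
theorem conj_mem_commutator_left {G : Type*} [Group G] (R A : Subgroup G) {r y : G} (hr : r ∈ R)
    (hy : y ∈ ⁅R, A⁆) : r * y * r⁻¹ ∈ ⁅R, A⁆ := by
  rw [Subgroup.commutator_def] at hy
  induction hy using closure_induction with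
  | mem x hx =>
    obtain ⟨g₁, h₁, g₂, h₂, rfl⟩ := hx
    have e : r * ⁅g₁, g₂⁆ * r⁻¹ = ⁅r * g₁, g₂⁆ * ⁅r, g₂⁆⁻¹ := by
      simp only [commutatorElement_def]; group
    rw [e]
    exact mul_mem (commutator_mem_commutator (mul_mem hr h₁) h₂)
      (inv_mem (commutator_mem_commutator hr h₂))
  | one => simp
  | mul a b _ _ ha hb =>
    have e : r * (a * b) * r⁻¹ = (r * a * r⁻¹) * (r * b * r⁻¹) := by group
    rw [e]; exact mul_mem ha hb
  | inv a _ ha =>
    have e : r * a⁻¹ * r⁻¹ = (r * a * r⁻¹)⁻¹ := by group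
    rw [e]; exact inv_mem ha

/-- `⁅R, A⁆` is normalized by `A` when `R` is normal -/
theorem conj_mem_commutator_right {G : Type*} [Group G] (R A : Subgroup G) [R.Normal] {a y : G}
    (ha : a ∈ A) (hy : y ∈ ⁅R, A⁆) : a * y * a⁻¹ ∈ ⁅R, A⁆ := by
  have h1 : a * y * a⁻¹ ∈ (⁅R, A⁆).map (MulAut.conj a).toMonoidHom := ⟨y, hy, by simp⟩
  rw [map_commutator] at h1
  refine commutator_mono ?_ ?_ h1
  · rintro _ ⟨x, hx, rfl⟩
    simpa using (inferInstance : R.Normal).conj_mem x hx a
  · rintro _ ⟨x, hx, rfl⟩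
    simpa using mul_mem (mul_mem ha hx) (inv_mem ha)

/-- pull back a cyclic subgroup of the range along an injective hom -/
theorem exists_comap_eq_zpowers {X G : Type*} [Group X] [Group G] (f : X →* G)
    (hf : Function.Injective f) (K : Subgroup G) (hK : K ≤ f.range) (hc : IsCyclic K) :
    ∃ x : X, K.comap f = zpowers x := by
  obtain ⟨g, hg⟩ := hc.exists_generator
  obtain ⟨x, hx⟩ := hK g.2
  refine ⟨x, ?_⟩
  ext d
  rw [mem_comap]
  constructor
  · intro hd
    obtain ⟨k, hk⟩ := mem_zpowers_iff.mp (hg ⟨f d, hd⟩)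
    have hk' : (g : G) ^ k = f d := by
      have := congrArg Subtype.val hk
      simpa using this
    rw [mem_zpowers_iff]
    refine ⟨k, hf ?_⟩
    rw [map_zpow, hx, hk']
  · intro hd
    obtain ⟨k, rfl⟩ := mem_zpowers_iff.mp hd
    rw [map_zpow, hx]
    exact zpow_mem g.2 k

theorem comm_exp_of_metacyclic_odd {p : ℕ} [Fact p.Prime] (hp : p ≠ 2) {X : Type*} [Group X]
    [Finite X] (hX : IsPGroup p X) (hm : Cfsg.IsMetacyclic X) (hna : ¬ IsMulCommutative X)
    (H : Subgroup (MulAut X)) (hH : (Nat.card H).Coprime p) :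
    (∀ a ∈ H, ∀ b ∈ H, a * b = b * a) ∧ ∀ h ∈ H, h ^ (p - 1) = 1 := by
  classical
  by_cases hbot : H = ⊥
  · subst hbot
    constructor
    · intro a ha b hb
      rw [mem_bot] at ha hb
      rw [ha, hb]
    · intro h hh
      rw [mem_bot] at hh
      rw [hh, one_pow]
  let φ : H →* MulAut X := H.subtype
  let G := X ⋊[φ] H
  have hfin : Finite G := Finite.of_equiv (X × H) SemidirectProduct.equivProd.symm
  let il : X →* G := SemidirectProduct.inl
  let ir : H →* G := SemidirectProduct.inr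
  have hil : Function.Injective il := SemidirectProduct.inl_injective
  have hir : Function.Injective ir := SemidirectProduct.inr_injective
  have haut : ∀ (α : H) (x : X), il ((α : MulAut X) x) = ir α * il x * (ir α)⁻¹ := by
    intro α x
    have := SemidirectProduct.inl_aut (φ := φ) α x
    rw [map_inv] at this
    exact this
  set R : Subgroup G := il.range with hRdef
  set A : Subgroup G := ir.range with hAdef
  have hRn : R.Normal := by
    rw [hRdef]
    have : il.range = (SemidirectProduct.rightHom : G →* H).ker :=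
      SemidirectProduct.range_inl_eq_ker_rightHom
    rw [this]
    infer_instance
  have hR : IsPGroup p R := hX.of_surjective il.rangeRestrict il.rangeRestrict_surjective
  have hRm : Cfsg.IsMetacyclic R := isMetacyclic_of_equiv (MonoidHom.ofInjective hil) hm
  have hA : A ≤ normalizer (R : Set G) := by
    rw [normalizer_eq_top]; exact le_top
  have hcop : (Nat.card A).Coprime p := by
    rw [← Nat.card_congr (MonoidHom.ofInjective hir).toEquiv]; exact hH
  obtain ⟨-, hsup, -, hrest⟩ := Cfsg.Agent.S1447.result p hp R A hR hRm hA hcop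
  have hRna : ¬ IsMulCommutative R := by
    intro h
    apply hna
    refine ⟨⟨fun x y => hil ?_⟩⟩
    have := h.is_comm.comm (⟨il x, x, rfl⟩ : R) ⟨il y, y, rfl⟩
    have h2 := congrArg Subtype.val this
    simpa using h2
  have hAnc : ¬ A ≤ centralizer (R : Set G) := by
    intro h
    apply hbot
    rw [eq_bot_iff]
    intro α hα
    rw [mem_bot]
    ext x
    apply hil
    have h1 := haut ⟨α, hα⟩ x
    have h2 : il x * ir ⟨α, hα⟩ = ir ⟨α, hα⟩ * il x :=
      (mem_centralizer_iff.mp (h ⟨⟨α, hα⟩, rfl⟩)) (il x) ⟨x, rfl⟩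
    rw [← h2, mul_inv_cancel_right] at h1
    exact h1
  obtain ⟨-, hcyc1, -, hcyc2, -⟩ := hrest hRna hAnc
  have hle1 : ⁅R, A⁆ ≤ il.range := commutator_le_left R A
  have hle2 : R ⊓ centralizer (A : Set G) ≤ il.range := inf_le_left
  obtain ⟨x, hx⟩ := exists_comap_eq_zpowers il hil _ hle1 hcyc1
  obtain ⟨y, hy⟩ := exists_comap_eq_zpowers il hil _ hle2 hcyc2
  set D : Subgroup X := (⁅R, A⁆).comap il with hD
  have hDn : D.Normal := by
    refine ⟨fun d hd g => ?_⟩
    rw [hD, mem_comap] at hd ⊢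
    rw [map_mul, map_mul, map_inv]
    exact conj_mem_commutator_left R A ⟨g, rfl⟩ hd
  have hDinv : ∀ α ∈ H, ∀ d ∈ D, α d ∈ D := by
    intro α hα d hd
    rw [hD, mem_comap] at hd ⊢
    rw [haut ⟨α, hα⟩ d]
    exact conj_mem_commutator_right R A ⟨⟨α, hα⟩, rfl⟩ hd
  have htop : (⊤ : Subgroup X) = D ⊔ zpowers y := by
    rw [← hy, eq_comm, eq_top_iff]
    intro z _
    have h1 : il z ∈ (D ⊔ (R ⊓ centralizer (A : Set G)).comap il).map il := by
      rw [Subgroup.map_sup, hD, map_comap_eq_self hle1, map_comap_eq_self hle2, hsup]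
      exact ⟨z, rfl⟩
    exact (mem_map_iff_mem hil).mp h1
  let d : ℕ → Subgroup X := fun i => match i with
    | 0 => ⊥
    | 1 => D
    | _ + 2 => ⊤
  refine Cfsg.Agent.Lib.Helper88.comm_exp_of_chain hX H hH d 2 ?_ rfl rfl ?_ ?_ ?_
  · apply monotone_nat_of_le_succ
    intro n
    match n with
    | 0 => exact bot_le
    | 1 => exact le_top
    | _ + 2 => exact le_rfl
  · intro i
    match i with
    | 0 => show (⊥ : Subgroup X).Normal; infer_instance
    | 1 => exact hDn
    | _ + 2 => show (⊤ : Subgroup X).Normal; infer_instance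
  · intro α hα i
    match i with
    | 0 =>
      intro z hz
      have hz' : z = 1 := hz
      rw [hz', map_one]; exact one_mem _
    | 1 => exact hDinv α hα
    | _ + 2 => intro z _; exact mem_top _
  · intro i
    match i with
    | 0 => exact ⟨x, by show D = ⊥ ⊔ zpowers x; rw [bot_sup_eq]; exact hx⟩
    | 1 => exact ⟨y, htop⟩
    | _ + 2 => exact ⟨1, by show (⊤ : Subgroup X) = ⊤ ⊔ zpowers 1; rw [top_sup_eq]⟩

end Cfsg.Agent.Lib.Helper86.MC
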