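import Cfsg.Agent.Lib.Lead.ReeAbs.Ax
import Cfsg.Agent.Lib.Helper55.Involutions

/-!
# Abstract part of piece [P2] of the Ree campaign: the torus of order `(q+1)/4`
-/

set_option autoImplicit false

namespace Cfsg.Agent.Lib.Helper86.ReeP2

open Subgroup Cfsg.Agent.Lib.Lead.ReeAbs

variable {G : Type*} [Group G] [Finite G]

/-- The configuration extracted from the model. -/
structure Cfg (a i0 τ : G) (A1 D : Subgroup G) (k : ℕ) : Prop where
  hk_odd : Odd k
  hk1 : 1 < k
  a_ne : a ≠ 1
  a_sq : a * a = 1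
  i0_ne : i0 ≠ 1
  i0_sq : i0 * i0 = 1
  i0_ne_a : i0 ≠ a
  a_mem : a ∈ A1
  i0_mem : i0 ∈ A1
  comm : ∀ x ∈ A1, ∀ y ∈ A1, x * y = y * x
  card_A1 : Nat.card A1 = 4 * k
  τ_mem : τ ∈ A1
  τ_ord : orderOf τ = k
  mem_τ : ∀ x ∈ A1, x ^ k = 1 → x ∈ zpowers τ
  lemA : ∀ y : G, y * a = a * y → y ≠ 1 → y ^ k = 1 →
    Nat.card ↥(centralizer {a} ⊓ centralizer {y}) = 4 * k
  conj : ∀ t : G, t ≠ 1 → t * t = 1 → ∃ g : G, g * a * g⁻¹ = t
  no3 : ∀ u y : G, orderOf u = 3 → y ≠ 1 → y ^ k = 1 → u * y ≠ y * u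
  card_D : Nat.card D = 8 * k
  D_norm : D ≤ normalizer (A1 : Set G)
  D_cent : ∀ g ∈ D, g * a = a * g
  D_mem : ∀ g ∈ normalizer (A1 : Set G), g * a = a * g → g ∈ D

variable {a i0 τ : G} {A1 D : Subgroup G} {k : ℕ}

/-- In a finite cyclic group the subgroup of order `n` is the set of solutions of `w ^ n = 1`. -/
theorem mem_of_pow_card {E : Type*} [Group E] [Finite E] [IsCyclic E]
    (A : Subgroup E) {w : E} (hw : w ^ Nat.card A = 1) : w ∈ A := by
  classical
  have : Fintype E := Fintype.ofFinite E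
  have hn0 : 0 < Nat.card A := Nat.card_pos
  have key : (A : Set E) =
      ((Finset.univ.filter fun a : E => a ^ Nat.card A = 1 : Finset E) : Set E) := by
    apply Set.eq_of_subset_of_ncard_le
    · intro x hx
      simp only [Finset.coe_filter, Finset.mem_univ, true_and, Set.mem_ofPred_eq]
      have := pow_card_eq_one' (x := (⟨x, hx⟩ : A))
      exact congrArg Subtype.val this
    · rw [Set.ncard_coe_finset]
      have h1 := IsCyclic.card_pow_eq_one_le (α := E) hn0
      have h2 : (A : Set E).ncard = Nat.card A := rfl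
      rw [h2]
      exact h1
    · exact Set.toFinite _
  have h3 : w ∈ ((Finset.univ.filter fun a : E => a ^ Nat.card A = 1 : Finset E) : Set E) := by
    rw [Finset.mem_coe, Finset.mem_filter]
    exact ⟨Finset.mem_univ _, hw⟩
  rw [← key] at h3
  exact h3

/-- ambient version -/
theorem mem_of_pow_card' {t : G} {A' : Subgroup G} (hA' : A' ≤ zpowers t) {w : G}
    (hwt : w ∈ zpowers t) (hw : w ^ Nat.card A' = 1) : w ∈ A' := by
  have h1 : Nat.card (A'.subgroupOf (zpowers t)) = Nat.card A' :=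
    Nat.card_congr (Subgroup.subgroupOfEquivOfLe hA').toEquiv
  have h3 : (⟨w, hwt⟩ : zpowers t) ∈ A'.subgroupOf (zpowers t) := by
    apply mem_of_pow_card
    rw [h1]
    apply Subtype.ext
    simpa using hw
  exact Subgroup.mem_subgroupOf.mp h3

theorem normalizer_le_normalizer_centralizer (H : Subgroup G) :
    normalizer (H : Set G) ≤ normalizer ((centralizer (H : Set G) : Subgroup G) : Set G) := by
  have key : ∀ g ∈ normalizer (H : Set G), ∀ b ∈ centralizer (H : Set G),
      g * b * g⁻¹ ∈ centralizer (H : Set G) := by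
    intro g hg b hb
    rw [mem_centralizer_iff] at hb ⊢
    intro z hz
    have hz' : g⁻¹ * z * g ∈ H := (mem_normalizer_iff''.mp hg z).mp hz
    have := hb _ hz'
    calc z * (g * b * g⁻¹) = g * ((g⁻¹ * z * g) * b) * g⁻¹ := by group
      _ = g * (b * (g⁻¹ * z * g)) * g⁻¹ := by rw [this]
      _ = g * b * g⁻¹ * z := by group
  intro g hg
  rw [mem_normalizer_iff]
  intro b
  constructor
  · exact key g hg b
  · intro hb
    have := key g⁻¹ (inv_mem hg) _ hb
    have e : g⁻¹ * (g * b * g⁻¹) * g⁻¹⁻¹ = b := by group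
    rwa [e] at this

/-- orbit-stabilizer by hand -/
theorem card_eq_of_orbit {N D : Subgroup G} (x : G) (T : Finset G)
    (h1 : ∀ g ∈ N, g * x * g⁻¹ ∈ T) (h2 : ∀ t ∈ T, ∃ g ∈ N, g * x * g⁻¹ = t)
    (h3 : ∀ g ∈ N, g * x * g⁻¹ = x ↔ g ∈ D) (hDN : D ≤ N) :
    Nat.card N = T.card * Nat.card D := by
  classical
  choose! rep hrepN hrep using h2
  have e : N ≃ T × D :=
    { toFun := fun g => (⟨(g : G) * x * (g : G)⁻¹, h1 g g.2⟩,
        ⟨(rep ((g : G) * x * (g : G)⁻¹))⁻¹ * (g : G), by
        have ht := h1 g g.2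
        rw [← h3 _ (N.mul_mem (N.inv_mem (hrepN _ ht)) g.2)]
        have := hrep _ ht
        calc (rep (↑g * x * (↑g)⁻¹))⁻¹ * ↑g * x * ((rep (↑g * x * (↑g)⁻¹))⁻¹ * ↑g)⁻¹
            = (rep (↑g * x * (↑g)⁻¹))⁻¹ * (↑g * x * (↑g)⁻¹) * rep (↑g * x * (↑g)⁻¹) := by group
          _ = (rep (↑g * x * (↑g)⁻¹))⁻¹ * (rep (↑g * x * (↑g)⁻¹) * x *
                (rep (↑g * x * (↑g)⁻¹))⁻¹) * rep (↑g * x * (↑g)⁻¹) := by rw [this]
          _ = x := by group⟩)
      invFun := fun td => ⟨rep td.1 * td.2, N.mul_mem (hrepN _ td.1.2) (hDN td.2.2)⟩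
      left_inv := by
        intro g
        apply Subtype.ext
        simp
      right_inv := by
        rintro ⟨⟨t, ht⟩, ⟨d, hd⟩⟩
        have hd' : d * x * d⁻¹ = x := (h3 d (hDN hd)).mpr hd
        have e1 : rep t * d * x * (rep t * d)⁻¹ = t := by
          calc rep t * d * x * (rep t * d)⁻¹ = rep t * (d * x * d⁻¹) * (rep t)⁻¹ := by group
            _ = t := by rw [hd', hrep t ht]
        simp only [e1, inv_mul_cancel_left] }
  rw [Nat.card_congr e, Nat.card_prod, Nat.card_eq_fintype_card, Fintype.card_coe]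

namespace Cfg

/-- `A1` has at most four elements of square one. -/
theorem four (h : Cfg a i0 τ A1 D k) {i j x : G} (hi : i ∈ A1) (hj : j ∈ A1) (hx : x ∈ A1)
    (hii : i * i = 1) (hjj : j * j = 1) (hxx : x * x = 1) (hi1 : i ≠ 1) (hj1 : j ≠ 1)
    (hij : i ≠ j) : x = 1 ∨ x = i ∨ x = j ∨ x = i * j := by
  classical
  have : Fact (Nat.Prime 2) := ⟨Nat.prime_two⟩
  let E4 : Subgroup G :=
    { carrier := {x | x ∈ A1 ∧ x * x = 1}
      one_mem' := ⟨A1.one_mem, one_mul 1⟩
      mul_mem' := by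
        rintro x y ⟨hx, hxx⟩ ⟨hy, hyy⟩
        refine ⟨A1.mul_mem hx hy, ?_⟩
        calc x * y * (x * y) = x * (y * x) * y := by simp only [mul_assoc]
          _ = x * (x * y) * y := by rw [h.comm y hy x hx]
          _ = (x * x) * (y * y) := by simp only [mul_assoc]
          _ = 1 := by rw [hxx, hyy, one_mul]
      inv_mem' := by
        rintro x ⟨hx, hxx⟩
        refine ⟨A1.inv_mem hx, ?_⟩
        rw [← mul_inv_rev, hxx, inv_one] }
  have hE4le : E4 ≤ A1 := fun x hx => hx.1
  have hE4p : IsPGroup 2 E4 := by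
    rintro ⟨x, hx⟩
    refine ⟨1, ?_⟩
    apply Subtype.ext
    simpa [pow_two] using hx.2
  obtain ⟨n, hn⟩ := IsPGroup.iff_card.mp hE4p
  have hdvd : Nat.card E4 ∣ 4 * k := h.card_A1 ▸ Subgroup.card_dvd_of_le hE4le
  have hcop : Nat.Coprime (Nat.card E4) k := by
    rw [hn]
    exact Nat.Coprime.pow_left _ (Nat.coprime_two_left.mpr h.hk_odd)
  have hle : Nat.card E4 ≤ 4 := Nat.le_of_dvd (by norm_num) (hcop.dvd_of_dvd_mul_right hdvd)
  by_contra hcon
  push Not at hcon
  obtain ⟨c1, c2, c3, c4⟩ := hcon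
  have hsub : (({1, i, j, i * j, x} : Finset G) : Set G) ⊆ (E4 : Set G) := by
    intro z hz
    simp only [Finset.coe_insert, Finset.coe_singleton, Set.mem_insert_iff,
      Set.mem_singleton_iff] at hz
    rcases hz with rfl | rfl | rfl | rfl | rfl
    · exact E4.one_mem
    · exact ⟨hi, hii⟩
    · exact ⟨hj, hjj⟩
    · exact E4.mul_mem ⟨hi, hii⟩ ⟨hj, hjj⟩
    · exact ⟨hx, hxx⟩
  have h5 : ({1, i, j, i * j, x} : Finset G).card = 5 := by
    have e1 : i * j ≠ x := fun e => c4 e.symm
    have e2 : j ≠ i * j := fun e => hi1 (by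
      have : 1 * j = i * j := by rw [one_mul]; exact e
      exact (mul_right_cancel this).symm)
    have e3 : i ≠ i * j := fun e => hj1 (by
      have : i * 1 = i * j := by rw [mul_one]; exact e
      exact (mul_left_cancel this).symm)
    have e4 : (1 : G) ≠ i * j := fun e => hij (by
      have : i * i = i * j := by rw [hii]; exact e
      exact mul_left_cancel this)
    rw [Finset.card_insert_of_notMem, Finset.card_insert_of_notMem, Finset.card_insert_of_notMem,
      Finset.card_insert_of_notMem, Finset.card_singleton]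
    · simpa using e1
    · simp only [Finset.mem_insert, Finset.mem_singleton, not_or]
      exact ⟨e2, fun e => c3 e.symm⟩
    · simp only [Finset.mem_insert, Finset.mem_singleton, not_or]
      exact ⟨hij, e3, fun e => c2 e.symm⟩
    · simp only [Finset.mem_insert, Finset.mem_singleton, not_or]
      exact ⟨fun e => hi1 e.symm, fun e => hj1 e.symm, e4, fun e => c1 e.symm⟩
  have h6 := Set.ncard_le_ncard hsub (Set.toFinite _)
  rw [Set.ncard_coe_finset, h5] at h6
  have h7 : (E4 : Set G).ncard = Nat.card E4 := (Nat.card_coe_set_eq _).symm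
  rw [h7] at h6
  omega

/-- (ii) -/
theorem cent_inv (h : Cfg a i0 τ A1 D k) {y i : G} (hy : y ∈ A1) (hy1 : y ≠ 1) (hyk : y ^ k = 1)
    (hi : i ∈ A1) (hi1 : i ≠ 1) (hii : i * i = 1) :
    centralizer {i} ⊓ centralizer {y} = A1 := by
  obtain ⟨g, hg⟩ := h.conj i hi1 hii
  have hiy : y * i = i * y := h.comm y hy i hi
  have ha : a = g⁻¹ * i * g := by rw [← hg]; group
  have h1 : (g⁻¹ * y * g) * a = a * (g⁻¹ * y * g) := by
    rw [ha]
    calc g⁻¹ * y * g * (g⁻¹ * i * g) = g⁻¹ * (y * i) * g := by group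
      _ = g⁻¹ * (i * y) * g := by rw [hiy]
      _ = _ := by group
  have h3 : g⁻¹ * y * g ≠ 1 := by
    intro e
    apply hy1
    calc y = g * (g⁻¹ * y * g) * g⁻¹ := by group
      _ = 1 := by rw [e]; group
  have h4 : (g⁻¹ * y * g) ^ k = 1 := by
    have : (g⁻¹ * y * g) ^ k = g⁻¹ * y ^ k * g := by
      have := conj_pow (a := g⁻¹) (b := y) (i := k)
      rwa [inv_inv] at this
    rw [this, hyk]; group
  have h5 := h.lemA _ h1 h3 h4
  symm
  apply Subgroup.eq_of_le_of_card_ge
  · intro x hx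
    rw [mem_inf, mem_centralizer_singleton_iff, mem_centralizer_singleton_iff]
    exact ⟨h.comm x hx i hi, h.comm x hx y hy⟩
  · rw [h.card_A1, ← h5]
    refine Nat.card_le_card_of_injective
      (fun x : ↥(centralizer {i} ⊓ centralizer {y}) =>
        (⟨g⁻¹ * x * g, ?_⟩ : ↥(centralizer {a} ⊓ centralizer {g⁻¹ * y * g}))) ?_
    · obtain ⟨x, hx⟩ := x
      rw [mem_inf, mem_centralizer_singleton_iff, mem_centralizer_singleton_iff] at hx ⊢
      constructor
      · rw [ha]
        calc g⁻¹ * x * g * (g⁻¹ * i * g) = g⁻¹ * (x * i) * g := by group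
          _ = g⁻¹ * (i * x) * g := by rw [hx.1]
          _ = _ := by group
      · calc g⁻¹ * x * g * (g⁻¹ * y * g) = g⁻¹ * (x * y) * g := by group
          _ = g⁻¹ * (y * x) * g := by rw [hx.2]
          _ = _ := by group
    · intro x x' hxx'
      have := congrArg Subtype.val hxx'
      simp only at this
      apply Subtype.ext
      exact mul_left_cancel (mul_right_cancel this)

theorem mem_of_comm (h : Cfg a i0 τ A1 D k) {y i x : G} (hy : y ∈ A1) (hy1 : y ≠ 1)
    (hyk : y ^ k = 1) (hi : i ∈ A1) (hi1 : i ≠ 1) (hii : i * i = 1) (hxi : x * i = i * x)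
    (hxy : x * y = y * x) : x ∈ A1 := by
  rw [← h.cent_inv hy hy1 hyk hi hi1 hii, mem_inf, mem_centralizer_singleton_iff,
    mem_centralizer_singleton_iff]
  exact ⟨hxi, hxy⟩

/-- (iii) no fusion of involutions of `A1` in `C(y)`. -/
theorem nofus (h : Cfg a i0 τ A1 D k) {y i j x : G} (hy : y ∈ A1) (hy1 : y ≠ 1) (hyk : y ^ k = 1)
    (hi : i ∈ A1) (hi1 : i ≠ 1) (hii : i * i = 1) (hj : j ∈ A1)
    (hxy : x * y = y * x) (hx : x * i * x⁻¹ = j) : i = j := by
  by_contra hij
  have hj1 : j ≠ 1 := by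
    intro e
    apply hi1
    rw [e] at hx
    calc i = x⁻¹ * (x * i * x⁻¹) * x := by group
      _ = 1 := by rw [hx]; group
  have hjj : j * j = 1 := by
    rw [← hx]
    calc x * i * x⁻¹ * (x * i * x⁻¹) = x * (i * i) * x⁻¹ := by group
      _ = 1 := by rw [hii]; group
  have hxinv : x⁻¹ * y = y * x⁻¹ := by
    calc x⁻¹ * y = x⁻¹ * (y * x) * x⁻¹ := by group
      _ = x⁻¹ * (x * y) * x⁻¹ := by rw [hxy]
      _ = y * x⁻¹ := by group
  -- `x` normalizes `A1`
  have hnorm : ∀ b ∈ A1, x * b * x⁻¹ ∈ A1 := by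
    intro b hb
    apply h.mem_of_comm hy hy1 hyk hj hj1 hjj
    · rw [← hx]
      calc x * b * x⁻¹ * (x * i * x⁻¹) = x * (b * i) * x⁻¹ := by group
        _ = x * (i * b) * x⁻¹ := by rw [h.comm b hb i hi]
        _ = _ := by group
    · calc x * b * x⁻¹ * y = x * b * (x⁻¹ * y) := by group
        _ = x * (b * y) * x⁻¹ := by rw [hxinv]; group
        _ = (x * y) * b * x⁻¹ := by rw [h.comm b hb y hy]; group
        _ = y * (x * b * x⁻¹) := by rw [hxy]; group
  have hxA : x ∉ A1 := by
    intro hxA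
    apply hij
    rw [← hx, h.comm x hxA i hi]; group
  have hj' := hnorm j hj
  have hj'sq : x * j * x⁻¹ * (x * j * x⁻¹) = 1 := by
    calc x * j * x⁻¹ * (x * j * x⁻¹) = x * (j * j) * x⁻¹ := by group
      _ = 1 := by rw [hjj]; group
  have hj'ne1 : x * j * x⁻¹ ≠ 1 := by
    intro e
    apply hj1
    calc j = x⁻¹ * (x * j * x⁻¹) * x := by group
      _ = 1 := by rw [e]; group
  have hj'nej : x * j * x⁻¹ ≠ j := by
    intro e
    apply hij
    rw [← hx] at e
    have e2 : x * j = x * i := by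
      have := mul_right_cancel e
      rw [hx] at this
      exact this
    exact (mul_left_cancel e2).symm
  have hl : x * (i * j) * x⁻¹ = j * (x * j * x⁻¹) := by
    rw [← hx]; group
  rcases h.four hi hj hj' hii hjj hj'sq hi1 hj1 hij with e | e | e | e
  · exact hj'ne1 e
  · -- `x` swaps `i` and `j`
    rw [e, h.comm j hj i hi] at hl
    have hl1 : i * j ≠ 1 := by
      intro e'
      apply hij
      have : i * j = i * i := by rw [e', hii]
      exact (mul_left_cancel this).symm
    have hlsq : i * j * (i * j) = 1 := by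
      calc i * j * (i * j) = i * (j * i) * j := by group
        _ = i * (i * j) * j := by rw [h.comm j hj i hi]
        _ = (i * i) * (j * j) := by group
        _ = 1 := by rw [hii, hjj, one_mul]
    apply hxA
    apply h.mem_of_comm hy hy1 hyk (A1.mul_mem hi hj) hl1 hlsq _ hxy
    calc x * (i * j) = (x * (i * j) * x⁻¹) * x := by group
      _ = i * j * x := by rw [hl]
  · exact hj'nej e
  · -- a 3-cycle
    rw [e] at hl
    have hl' : x * (i * j) * x⁻¹ = i := by
      rw [hl, h.comm i hi j hj, ← mul_assoc, hjj, one_mul]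
    have hx3 : x ^ 3 * i = i * x ^ 3 := by
      have : x ^ 3 * i * (x ^ 3)⁻¹ = i := by
        have hx3e : x ^ 3 = x * x * x := by rw [pow_succ, pow_two]
        calc x ^ 3 * i * (x ^ 3)⁻¹ = x * (x * (x * i * x⁻¹) * x⁻¹) * x⁻¹ := by
              rw [hx3e]; simp only [mul_assoc, mul_inv_rev]
          _ = i := by rw [hx, e, hl']
      calc x ^ 3 * i = (x ^ 3 * i * (x ^ 3)⁻¹) * x ^ 3 := by group
        _ = i * x ^ 3 := by rw [this]
    have hx3y : x ^ 3 * y = y * x ^ 3 := ((Commute.pow_left (show Commute x y from hxy)) 3)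
    have hx3A : x ^ 3 ∈ A1 := h.mem_of_comm hy hy1 hyk hi hi1 hii hx3 hx3y
    have h3 : 3 ∣ orderOf x := by
      by_contra hnd
      have hc : Nat.Coprime 3 (orderOf x) := (Nat.Prime.coprime_iff_not_dvd Nat.prime_three).mpr hnd
      obtain ⟨m, hm⟩ := exists_pow_eq_self_of_coprime hc
      exact hxA (hm ▸ A1.pow_mem hx3A m)
    have ho : orderOf (x ^ (orderOf x / 3)) = 3 :=
      orderOf_pow_orderOf_div (orderOf_pos x).ne' h3
    exact h.no3 _ y ho hy1 hyk ((Commute.pow_left (show Commute x y from hxy)) _)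

/-- (iv) Claim 1: `C(y) = A1`. -/
theorem cent_y (h : Cfg a i0 τ A1 D k) {y : G} (hy : y ∈ A1) (hy1 : y ≠ 1) (hyk : y ^ k = 1) :
    centralizer {y} = A1 := by
  apply le_antisymm
  · intro x hx
    rw [mem_centralizer_singleton_iff] at hx
    have hay : a * y = y * a := h.comm a h.a_mem y hy
    have hiy : i0 * y = y * i0 := h.comm i0 h.i0_mem y hy
    have hxinv : x⁻¹ * y = y * x⁻¹ := by
      calc x⁻¹ * y = x⁻¹ * (y * x) * x⁻¹ := by group
        _ = x⁻¹ * (x * y) * x⁻¹ := by rw [hx]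
        _ = y * x⁻¹ := by group
    have hby : (x * i0 * x⁻¹) * y = y * (x * i0 * x⁻¹) := by
      calc x * i0 * x⁻¹ * y = x * i0 * (x⁻¹ * y) := by group
        _ = x * (i0 * y) * x⁻¹ := by rw [hxinv]; group
        _ = (x * y) * i0 * x⁻¹ := by rw [hiy]; group
        _ = y * (x * i0 * x⁻¹) := by rw [hx]; group
    set b := x * i0 * x⁻¹ with hb
    have hbb : b * b = 1 := by
      calc b * b = x * (i0 * i0) * x⁻¹ := by rw [hb]; group
        _ = 1 := by rw [h.i0_sq]; group
    have hb1 : b ≠ 1 := by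
      intro e
      apply h.i0_ne
      calc i0 = x⁻¹ * b * x := by rw [hb]; group
        _ = 1 := by rw [e]; group
    -- work inside `C(y)`
    let a' : ↥(centralizer ({y} : Set G)) := ⟨a, mem_centralizer_singleton_iff.mpr hay⟩
    let b' : ↥(centralizer ({y} : Set G)) := ⟨b, mem_centralizer_singleton_iff.mpr hby⟩
    have hoa : orderOf a' = 2 := by
      rw [Subgroup.orderOf_mk]
      exact Cfsg.Agent.Lib.Helper55.orderOf_two_of h.a_ne h.a_sq
    have hob : orderOf b' = 2 := by
      rw [Subgroup.orderOf_mk]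
      exact Cfsg.Agent.Lib.Helper55.orderOf_two_of hb1 hbb
    have hbA : b ∈ A1 := by
      by_cases hc : IsConj a' b'
      · exfalso
        rw [isConj_iff] at hc
        obtain ⟨⟨c, hc⟩, hcab⟩ := hc
        rw [mem_centralizer_singleton_iff] at hc
        have hcab' : c * a * c⁻¹ = b := congrArg Subtype.val hcab
        apply h.i0_ne_a
        symm
        apply h.nofus hy hy1 hyk h.a_mem h.a_ne h.a_sq h.i0_mem (x := x⁻¹ * c)
        · calc x⁻¹ * c * y = x⁻¹ * (c * y) := by group
            _ = (x⁻¹ * y) * c := by rw [hc]; group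
            _ = y * (x⁻¹ * c) := by rw [hxinv]; group
        · calc x⁻¹ * c * a * (x⁻¹ * c)⁻¹ = x⁻¹ * (c * a * c⁻¹) * x := by group
            _ = i0 := by rw [hcab', hb]; group
      · obtain ⟨⟨u, hu⟩, hou, hua, hub, -⟩ :=
          Cfsg.Agent.Lib.Helper55.exists_involution_commute_of_not_isConj a' b' hoa hob hc
        rw [mem_centralizer_singleton_iff] at hu
        rw [Subgroup.orderOf_mk] at hou
        have hua' : u * a = a * u := congrArg Subtype.val hua.eq
        have hub' : u * b = b * u := congrArg Subtype.val hub.eq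
        have hu1 := Cfsg.Agent.Lib.Helper55.ne_one_of_orderOf_two hou
        have huu := Cfsg.Agent.Lib.Helper55.mul_self_of_orderOf_two hou
        have huA : u ∈ A1 := h.mem_of_comm hy hy1 hyk h.a_mem h.a_ne h.a_sq hua' hu
        exact h.mem_of_comm hy hy1 hyk huA hu1 huu hub'.symm hby
    have hbi : i0 = b := h.nofus hy hy1 hyk h.i0_mem h.i0_ne h.i0_sq hbA hx rfl
    apply h.mem_of_comm hy hy1 hyk h.i0_mem h.i0_ne h.i0_sq _ hx
    calc x * i0 = b * x := by rw [hb]; group
      _ = i0 * x := by rw [← hbi]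
  · intro x hx
    rw [mem_centralizer_singleton_iff]
    exact h.comm x hx y hy

theorem mem_A (h : Cfg a i0 τ A1 D k) {x : G} (hx : x ∈ zpowers τ) : x ∈ A1 ∧ x ^ k = 1 := by
  obtain ⟨n, rfl⟩ := mem_zpowers_iff.mp hx
  refine ⟨A1.zpow_mem h.τ_mem n, ?_⟩
  rw [← zpow_natCast, ← zpow_mul, mul_comm, zpow_mul, zpow_natCast, ← h.τ_ord,
    pow_orderOf_eq_one, one_zpow]

/-- (T1) -/
theorem cent_sub (h : Cfg a i0 τ A1 D k) {A' : Subgroup G} (hA' : A' ≤ zpowers τ)
    (hne : A' ≠ ⊥) : centralizer (A' : Set G) = A1 := by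
  obtain ⟨y, hyA', hy1⟩ := A'.bot_or_exists_ne_one.resolve_left hne
  obtain ⟨hyA1, hyk⟩ := h.mem_A (hA' hyA')
  apply le_antisymm
  · intro x hx
    rw [← h.cent_y hyA1 hy1 hyk, mem_centralizer_singleton_iff]
    exact (mem_centralizer_iff.mp hx y hyA').symm
  · intro x hx
    rw [mem_centralizer_iff]
    intro z hz
    exact h.comm z (h.mem_A (hA' hz)).1 x hx

/-- (T2) -/
theorem norm_sub (h : Cfg a i0 τ A1 D k) {A' : Subgroup G} (hA' : A' ≤ zpowers τ)
    (hne : A' ≠ ⊥) : normalizer (A' : Set G) = normalizer (A1 : Set G) := by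
  apply le_antisymm
  · have := normalizer_le_normalizer_centralizer A'
    rwa [h.cent_sub hA' hne] at this
  · have key : ∀ g ∈ normalizer (A1 : Set G), ∀ x ∈ A', g * x * g⁻¹ ∈ A' := by
      intro g hg x hx
      obtain ⟨hxA1, hxk⟩ := h.mem_A (hA' hx)
      have h1 : g * x * g⁻¹ ∈ A1 := (mem_normalizer_iff.mp hg x).mp hxA1
      apply mem_of_pow_card' hA'
      · apply h.mem_τ _ h1
        rw [conj_pow, hxk]; group
      · rw [conj_pow]
        have : x ^ Nat.card A' = 1 := by
          have := pow_card_eq_one' (x := (⟨x, hx⟩ : A'))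
          exact congrArg Subtype.val this
        rw [this]; group
    intro g hg
    rw [mem_normalizer_iff]
    intro b
    constructor
    · exact key g hg b
    · intro hb
      have := key g⁻¹ (inv_mem hg) _ hb
      have e : g⁻¹ * (g * b * g⁻¹) * g⁻¹⁻¹ = b := by group
      rwa [e] at this

/-- the Frattini-type argument -/
theorem exists_norm_conj (h : Cfg a i0 τ A1 D k) {t : G} (ht : t ∈ A1) (ht1 : t ≠ 1)
    (htt : t * t = 1) : ∃ n ∈ normalizer (A1 : Set G), n * a * n⁻¹ = t := by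
  have hsp : k.minFac.Prime := Nat.minFac_prime h.hk1.ne'
  have : Fact k.minFac.Prime := ⟨hsp⟩
  set s := k.minFac with hs
  have hsk : s ∣ k := Nat.minFac_dvd k
  have hys : orderOf (τ ^ (k / s)) = s := by
    have := orderOf_pow_orderOf_div (x := τ) (n := s) (by rw [h.τ_ord]; have := h.hk1; omega)
      (by rw [h.τ_ord]; exact hsk)
    rwa [h.τ_ord] at this
  set y := τ ^ (k / s) with hy
  obtain ⟨hyA1, hyk⟩ := h.mem_A (Subgroup.pow_mem _ (mem_zpowers τ) (k / s) : y ∈ zpowers τ)
  have hy1 : y ≠ 1 := by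
    intro e
    rw [e, orderOf_one] at hys
    exact hsp.one_lt.ne hys
  have hzp : IsPGroup s (zpowers y) := IsPGroup.of_card (n := 1) (by rw [Nat.card_zpowers, hys, pow_one])
  obtain ⟨P, hP⟩ := hzp.exists_le_sylow
  have hyP : y ∈ P := hP (mem_zpowers y)
  have : Nontrivial P := ⟨⟨⟨y, hyP⟩, 1, fun e => hy1 (congrArg Subtype.val e)⟩⟩
  have hcn := P.isPGroup'.center_nontrivial
  obtain ⟨⟨⟨z, hzP⟩, hzc⟩, hz1⟩ := exists_ne (1 : center P)
  have hz1' : z ≠ 1 := by
    intro e
    apply hz1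
    apply Subtype.ext
    apply Subtype.ext
    exact e
  have hzcomm : ∀ x ∈ P, x * z = z * x := by
    intro x hx
    have := (Subgroup.mem_center_iff.mp hzc) ⟨x, hx⟩
    exact congrArg Subtype.val this
  have hzA1 : z ∈ A1 := by
    rw [← h.cent_y hyA1 hy1 hyk, mem_centralizer_singleton_iff]
    exact (hzcomm y hyP).symm
  have hzk : z ^ k = 1 := by
    obtain ⟨j, hj⟩ := P.isPGroup' ⟨z, hzP⟩
    have hj' : z ^ s ^ j = 1 := by
      have := congrArg Subtype.val hj
      simpa using this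
    have h1 : orderOf z ∣ s ^ j := orderOf_dvd_of_pow_eq_one hj'
    have h3 : orderOf z ∣ 4 * k := h.card_A1 ▸ Subgroup.orderOf_dvd_natCard A1 hzA1
    have hsodd : Odd s := Odd.of_dvd_nat h.hk_odd hsk
    have h4 : Nat.Coprime (s ^ j) 4 := by
      apply Nat.Coprime.pow_left
      have : Nat.Coprime s (2 ^ 2) := Nat.Coprime.pow_right _ (Nat.coprime_two_right.mpr hsodd)
      exact this
    have h5 : Nat.Coprime (orderOf z) 4 := Nat.Coprime.coprime_dvd_left h1 h4
    exact orderOf_dvd_iff_pow_eq_one.mp (h5.dvd_of_dvd_mul_left h3)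
  have hPA1 : (P : Subgroup G) ≤ A1 := by
    intro x hx
    rw [← h.cent_y hzA1 hz1' hzk, mem_centralizer_singleton_iff]
    exact hzcomm x hx
  have hCP : centralizer ((P : Subgroup G) : Set G) = A1 := by
    apply le_antisymm
    · intro x hx
      rw [← h.cent_y hyA1 hy1 hyk, mem_centralizer_singleton_iff]
      exact (mem_centralizer_iff.mp hx y hyP).symm
    · intro x hx
      rw [mem_centralizer_iff]
      intro w hw
      exact h.comm w (hPA1 hw) x hx
  obtain ⟨g, hg⟩ := h.conj t ht1 htt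
  have hga : g⁻¹ * t * g = a := by rw [← hg]; group
  have hCP' : centralizer (P : Set G) = A1 := hCP
  obtain ⟨n, hn, hn'⟩ := P.conj_eq_normalizer_conj_of_mem_centralizer t g (by rw [hCP']; exact ht)
    (by rw [hCP', hga]; exact h.a_mem)
  refine ⟨n, ?_, ?_⟩
  · have := normalizer_le_normalizer_centralizer (P : Subgroup G) hn
    rwa [hCP] at this
  · rw [← hga, hn']; group

theorem card_norm (h : Cfg a i0 τ A1 D k) : Nat.card ↥(normalizer (A1 : Set G)) = 24 * k := by
  classical
  have hai : a * i0 ∈ A1 := A1.mul_mem h.a_mem h.i0_mem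
  have hai1 : a * i0 ≠ 1 := by
    intro e
    apply h.i0_ne_a
    have : a * i0 = a * a := by rw [e, h.a_sq]
    exact mul_left_cancel this
  have haisq : a * i0 * (a * i0) = 1 := by
    calc a * i0 * (a * i0) = a * (i0 * a) * i0 := by group
      _ = a * (a * i0) * i0 := by rw [h.comm i0 h.i0_mem a h.a_mem]
      _ = (a * a) * (i0 * i0) := by group
      _ = 1 := by rw [h.a_sq, h.i0_sq, one_mul]
  have hT : ({a, i0, a * i0} : Finset G).card = 3 := by
    rw [Finset.card_insert_of_notMem, Finset.card_insert_of_notMem, Finset.card_singleton]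
    · simp only [Finset.mem_singleton]
      intro e
      apply h.a_ne
      have : 1 * i0 = a * i0 := by rw [one_mul]; exact e
      exact (mul_right_cancel this).symm
    · simp only [Finset.mem_insert, Finset.mem_singleton, not_or]
      refine ⟨fun e => h.i0_ne_a e.symm, ?_⟩
      intro e
      apply h.i0_ne
      have : a * 1 = a * i0 := by rw [mul_one]; exact e
      exact (mul_left_cancel this).symm
  have := card_eq_of_orbit (N := normalizer (A1 : Set G)) (D := D) a {a, i0, a * i0} ?_ ?_ ?_ h.D_norm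
  · rw [this, hT, h.card_D]; ring
  · intro g hg
    have h1 : g * a * g⁻¹ ∈ A1 := (mem_normalizer_iff.mp hg a).mp h.a_mem
    have h3 : g * a * g⁻¹ * (g * a * g⁻¹) = 1 := by
      calc g * a * g⁻¹ * (g * a * g⁻¹) = g * (a * a) * g⁻¹ := by group
        _ = 1 := by rw [h.a_sq]; group
    have h4 : g * a * g⁻¹ ≠ 1 := by
      intro e
      apply h.a_ne
      calc a = g⁻¹ * (g * a * g⁻¹) * g := by group
        _ = 1 := by rw [e]; group
    rcases h.four h.a_mem h.i0_mem h1 h.a_sq h.i0_sq h3 h.a_ne h.i0_ne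
      (fun e => h.i0_ne_a e.symm) with e | e | e | e
    · exact absurd e h4
    · simp [e]
    · simp [e]
    · simp [e]
  · intro t ht
    simp only [Finset.mem_insert, Finset.mem_singleton] at ht
    rcases ht with rfl | rfl | rfl
    · exact ⟨1, one_mem _, by group⟩
    · exact h.exists_norm_conj h.i0_mem h.i0_ne h.i0_sq
    · exact h.exists_norm_conj hai hai1 haisq
  · intro g hg
    constructor
    · intro e
      apply h.D_mem g hg
      calc g * a = (g * a * g⁻¹) * g := by group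
        _ = a * g := by rw [e]
    · intro hgD
      rw [h.D_cent g hgD]; group

theorem isTorus (h : Cfg a i0 τ A1 D k) : IsTorus (zpowers τ) k (4 * k) (24 * k) := by
  have hne : zpowers τ ≠ ⊥ := by
    intro e
    rw [zpowers_eq_bot] at e
    have := h.τ_ord
    rw [e, orderOf_one] at this
    have := h.hk1
    omega
  have hC := h.cent_sub le_rfl hne
  have hN := h.norm_sub le_rfl hne
  refine ⟨inferInstance, by rw [Nat.card_zpowers, h.τ_ord], by rw [hC, h.card_A1], ?_,
    by rw [hN, h.card_norm], ?_, ?_⟩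
  · rw [hC]; exact h.comm
  · intro A' hA' hA'ne
    rw [hC, h.cent_sub hA' hA'ne]
  · intro A' hA' hA'ne
    rw [hN, h.norm_sub hA' hA'ne]

theorem centralizer_eq (h : Cfg a i0 τ A1 D k) : centralizer ((zpowers τ : Subgroup G) : Set G) = A1 := by
  have hne : zpowers τ ≠ ⊥ := by
    intro e
    rw [zpowers_eq_bot] at e
    have := h.τ_ord
    rw [e, orderOf_one] at this
    have := h.hk1
    omega
  exact h.cent_sub le_rfl hne

end Cfg

end Cfsg.Agent.Lib.Helper86.ReeP2
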