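import Cfsg.Agent.Lib.Helper86.ReeP2Abs

/-!
# Piece [P2] of the Ree campaign: from `C(a) ≅ 2 × L` to the abstract configuration
-/

set_option autoImplicit false

namespace Cfsg.Agent.Lib.Helper86.ReeP2

open Subgroup Cfsg.Agent.Lib.Lead.ReeAbs

/-- A cyclic subgroup `⟨t⟩` of order `2k` with "dihedral" normalizer `N` of order `4k`. -/
structure LTor {L : Type*} [Group L] (t : L) (N : Subgroup L) (k : ℕ) : Prop where
  ord : orderOf t = 2 * k
  card_N : Nat.card N = 4 * k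
  t_mem : t ∈ N
  dich : ∀ l ∈ N, l ∈ zpowers t ∨ l * t * l⁻¹ = t⁻¹
  ctl : ∀ g : L, ∀ a ∈ zpowers t, a ≠ 1 → g * a * g⁻¹ ∈ zpowers t → g ∈ N

abbrev Z2 := Multiplicative (ZMod 2)

theorem z2_sq : ∀ z : Z2, z * z = 1 := by decide

theorem z2_card : Nat.card Z2 = 2 := by simp [Z2]

theorem z2_eq_one_of_pow {k : ℕ} (hk : Odd k) (z : Z2) (h : z ^ k = 1) : z = 1 := by
  obtain ⟨n, rfl⟩ := hk
  rwa [pow_succ, pow_mul, pow_two, z2_sq, one_pow, one_mul] at h

theorem eq_one_of_sq_of_pow {L : Type*} [Group L] {k : ℕ} (hk : Odd k) (l : L) (h2 : l * l = 1)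
    (h : l ^ k = 1) : l = 1 := by
  obtain ⟨n, rfl⟩ := hk
  rwa [pow_succ, pow_mul, pow_two, h2, one_pow, one_mul] at h

theorem le_normalizer_of_conj_mem {G : Type*} [Group G] {D A : Subgroup G}
    (h : ∀ g ∈ D, ∀ b ∈ A, g * b * g⁻¹ ∈ A) : D ≤ normalizer (A : Set G) := by
  intro g hg
  rw [mem_normalizer_iff]
  intro b
  constructor
  · exact h g hg b
  · intro hb
    have := h g⁻¹ (inv_mem hg) _ hb
    have e : g⁻¹ * (g * b * g⁻¹) * g⁻¹⁻¹ = b := by group
    rwa [e] at this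

namespace LTor

variable {L : Type*} [Group L] {t : L} {N : Subgroup L} {k : ℕ}

theorem comm_zp {x y : L} (hx : x ∈ zpowers t) (hy : y ∈ zpowers t) : x * y = y * x := by
  obtain ⟨n, rfl⟩ := mem_zpowers_iff.mp hx
  obtain ⟨n', rfl⟩ := mem_zpowers_iff.mp hy
  rw [← zpow_add, ← zpow_add, add_comm]

/-- conjugation by `N` preserves `⟨t⟩`; more precisely it centralizes or inverts. -/
theorem conj_zp (h : LTor t N k) {l w : L} (hl : l ∈ N) (hw : w ∈ zpowers t) :
    (l ∈ zpowers t ∧ l * w * l⁻¹ = w) ∨ l * w * l⁻¹ = w⁻¹ := by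
  rcases h.dich l hl with h1 | h1
  · left
    refine ⟨h1, ?_⟩
    rw [comm_zp h1 hw]; group
  · right
    obtain ⟨n, rfl⟩ := mem_zpowers_iff.mp hw
    have : l * t ^ n * l⁻¹ = (l * t * l⁻¹) ^ n := (conj_zpow (a := l) (b := t) (i := n)).symm
    rw [this, h1, inv_zpow]

theorem conj_mem (h : LTor t N k) {l w : L} (hl : l ∈ N) (hw : w ∈ zpowers t) :
    l * w * l⁻¹ ∈ zpowers t := by
  rcases h.conj_zp hl hw with ⟨-, h1⟩ | h1
  · rw [h1]; exact hw
  · rw [h1]; exact inv_mem hw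

/-- the centralizer of an element of odd order of `⟨t⟩`. -/
theorem mem_of_comm (h : LTor t N k) (hk : Odd k) {l w : L} (hl : l ∈ zpowers t) (hl1 : l ≠ 1)
    (hlk : l ^ k = 1) (hw : w * l = l * w) : w ∈ zpowers t := by
  have h1 : w * l * w⁻¹ = l := by rw [hw]; group
  have hwN : w ∈ N := h.ctl w l hl hl1 (by rw [h1]; exact hl)
  rcases h.conj_zp hwN hl with ⟨h3, -⟩ | h3
  · exact h3
  · exfalso
    apply hl1
    apply eq_one_of_sq_of_pow hk l _ hlk
    rw [h1] at h3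
    calc l * l = l * l⁻¹ := by rw [← h3]
      _ = 1 := mul_inv_cancel l

end LTor

section iota

variable {G : Type*} [Group G] {L : Type*} [Group L] {a : G}
  (e : ↥(centralizer ({a} : Set G)) ≃* Z2 × L)

/-- the embedding of `2 × L` in `G`. -/
noncomputable def iota : Z2 × L →* G := (centralizer ({a} : Set G)).subtype.comp e.symm.toMonoidHom

theorem iota_inj : Function.Injective (iota e) :=
  (Subgroup.subtype_injective _).comp e.symm.injective

theorem iota_comm (x : Z2 × L) : iota e x * a = a * iota e x :=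
  mem_centralizer_singleton_iff.mp (e.symm x).2

theorem exists_iota {g : G} (hg : g * a = a * g) : ∃ x, iota e x = g :=
  ⟨e ⟨g, mem_centralizer_singleton_iff.mpr hg⟩, by simp [iota]⟩

theorem iota_a (ha : ∀ h, e ⟨a, h⟩ = (Multiplicative.ofAdd 1, 1)) :
    iota e (Multiplicative.ofAdd 1, 1) = a := by
  have h : a ∈ centralizer ({a} : Set G) := mem_centralizer_singleton_iff.mpr rfl
  rw [← ha h]
  simp [iota]

theorem card_map_prod [Finite L] (T : Subgroup L) :
    Nat.card ↥(((⊤ : Subgroup Z2).prod T).map (iota e)) = 2 * Nat.card T := by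
  rw [Subgroup.card_map_of_injective (iota_inj e),
    Nat.card_congr (Subgroup.prodEquiv (⊤ : Subgroup Z2) T).toEquiv, Nat.card_prod,
    Subgroup.card_top, z2_card]

theorem mem_map_prod {T : Subgroup L} {g : G} :
    g ∈ ((⊤ : Subgroup Z2).prod T).map (iota e) ↔ ∃ z : Z2, ∃ l ∈ T, iota e (z, l) = g := by
  constructor
  · rintro ⟨⟨z, l⟩, hx, rfl⟩
    exact ⟨z, l, (Subgroup.mem_prod.mp hx).2, rfl⟩
  · rintro ⟨z, l, hl, rfl⟩
    exact ⟨(z, l), Subgroup.mem_prod.mpr ⟨mem_top _, hl⟩, rfl⟩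

end iota

section main

variable {G : Type*} [Group G] [Finite G] {L : Type*} [Group L] [Finite L] {a : G}

theorem cfg_of_model (e : ↥(centralizer ({a} : Set G)) ≃* Z2 × L)
    (ha : ∀ h, e ⟨a, h⟩ = (Multiplicative.ofAdd 1, 1)) {k : ℕ} (hk_odd : Odd k) (hk1 : 1 < k)
    (a_ne : a ≠ 1) (a_sq : a * a = 1) {t0 : L} {N : Subgroup L} (hT : LTor t0 N k)
    (hL1 : ∀ l : L, l ≠ 1 → l ^ k = 1 → ∃ (t : L) (N : Subgroup L), LTor t N k ∧ l ∈ zpowers t)
    (conj : ∀ t : G, t ≠ 1 → t * t = 1 → ∃ g : G, g * a * g⁻¹ = t)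
    (no3 : ∀ u y : G, orderOf u = 3 → y ≠ 1 → y ^ k = 1 → u * y ≠ y * u) :
    Cfg a (iota e (1, t0 ^ k)) (iota e (1, t0 ^ 2)) (((⊤ : Subgroup Z2).prod (zpowers t0)).map (iota e))
      (((⊤ : Subgroup Z2).prod N).map (iota e)) k := by
  have hinj := iota_inj e
  have hia := iota_a e ha
  have hk0 : k ≠ 0 := by omega
  have ht0k : t0 ^ k ≠ 1 := pow_ne_one_of_lt_orderOf hk0 (by rw [hT.ord]; omega)
  have ht02 : t0 ^ 2 ≠ 1 := pow_ne_one_of_lt_orderOf (by norm_num) (by rw [hT.ord]; omega)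
  have hord2 : orderOf (t0 ^ 2) = k := by
    rw [orderOf_pow_of_dvd (by norm_num) (by rw [hT.ord]; exact Dvd.intro _ rfl), hT.ord]
    omega
  have hcommA : ∀ (t : L), ∀ x ∈ ((⊤ : Subgroup Z2).prod (zpowers t)).map (iota e),
      ∀ y ∈ ((⊤ : Subgroup Z2).prod (zpowers t)).map (iota e), x * y = y * x := by
    intro t x hx y hy
    obtain ⟨z, l, hl, rfl⟩ := (mem_map_prod e).mp hx
    obtain ⟨z', l', hl', rfl⟩ := (mem_map_prod e).mp hy
    rw [← map_mul, ← map_mul, Prod.mk_mul_mk, Prod.mk_mul_mk, mul_comm z z', LTor.comm_zp hl hl']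
  have hcardA : ∀ (t : L) (N : Subgroup L), LTor t N k →
      Nat.card ↥(((⊤ : Subgroup Z2).prod (zpowers t)).map (iota e)) = 4 * k := by
    intro t N h
    rw [card_map_prod, Nat.card_zpowers, h.ord]; ring
  refine
    { hk_odd := hk_odd
      hk1 := hk1
      a_ne := a_ne
      a_sq := a_sq
      i0_ne := ?_
      i0_sq := ?_
      i0_ne_a := ?_
      a_mem := ?_
      i0_mem := ?_
      comm := hcommA t0
      card_A1 := hcardA t0 N hT
      τ_mem := ?_
      τ_ord := ?_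
      mem_τ := ?_
      lemA := ?_
      conj := conj
      no3 := no3
      card_D := ?_
      D_norm := ?_
      D_cent := ?_
      D_mem := ?_ }
  · -- i0_ne
    intro h
    rw [← map_one (iota e)] at h
    have := congrArg Prod.snd (hinj h)
    exact ht0k this
  · -- i0_sq
    rw [← map_mul, Prod.mk_mul_mk, one_mul, ← pow_add, ← two_mul, ← hT.ord, pow_orderOf_eq_one]
    exact map_one _
  · -- i0_ne_a
    intro h
    have := congrArg Prod.snd (hinj (h.trans hia.symm))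
    exact ht0k this
  · -- a_mem
    exact (mem_map_prod e).mpr ⟨_, 1, one_mem _, hia⟩
  · exact (mem_map_prod e).mpr ⟨1, _, Subgroup.pow_mem _ (mem_zpowers t0) k, rfl⟩
  · exact (mem_map_prod e).mpr ⟨1, _, Subgroup.pow_mem _ (mem_zpowers t0) 2, rfl⟩
  · -- τ_ord
    rw [orderOf_injective _ hinj, Prod.orderOf, orderOf_one, hord2, Nat.lcm_one_left]
  · -- mem_τ
    intro x hx hxk
    obtain ⟨z, w, hw, rfl⟩ := (mem_map_prod e).mp hx
    rw [← map_pow, ← map_one (iota e)] at hxk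
    have h1 := hinj hxk
    have hz : z = 1 := z2_eq_one_of_pow hk_odd z (congrArg Prod.fst h1)
    have hwk : w ^ k = 1 := congrArg Prod.snd h1
    have hw2 : w ∈ zpowers (t0 ^ 2) := by
      apply mem_of_pow_card' (t := t0) _ hw
      · rw [Nat.card_zpowers, hord2]; exact hwk
      · rw [zpowers_le]; exact Subgroup.pow_mem _ (mem_zpowers t0) 2
    obtain ⟨n, rfl⟩ := mem_zpowers_iff.mp hw2
    rw [hz, mem_zpowers_iff]
    refine ⟨n, ?_⟩
    rw [← map_zpow]
    congr 1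
    exact Prod.ext (by simp) (by simp)
  · -- lemA
    intro y hya hy1 hyk
    obtain ⟨⟨z, l⟩, rfl⟩ := exists_iota e hya
    rw [← map_pow, ← map_one (iota e)] at hyk
    have h1 := hinj hyk
    have hz : z = 1 := z2_eq_one_of_pow hk_odd z (congrArg Prod.fst h1)
    have hlk : l ^ k = 1 := congrArg Prod.snd h1
    have hl1 : l ≠ 1 := by
      intro h
      apply hy1
      rw [hz, h]
      exact map_one _
    obtain ⟨t, N', hT', hlt⟩ := hL1 l hl1 hlk
    have : centralizer {a} ⊓ centralizer {iota e (z, l)} =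
        ((⊤ : Subgroup Z2).prod (zpowers t)).map (iota e) := by
      ext g
      rw [mem_inf, mem_centralizer_singleton_iff, mem_centralizer_singleton_iff]
      constructor
      · rintro ⟨hga, hgy⟩
        obtain ⟨⟨z', w⟩, rfl⟩ := exists_iota e hga
        rw [← map_mul, ← map_mul] at hgy
        have h3 : w * l = l * w := congrArg Prod.snd (hinj hgy)
        exact (mem_map_prod e).mpr ⟨z', w, hT'.mem_of_comm hk_odd hlt hl1 hlk h3, rfl⟩
      · intro hg
        obtain ⟨z', w, hw, rfl⟩ := (mem_map_prod e).mp hg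
        refine ⟨iota_comm e _, ?_⟩
        rw [← map_mul, ← map_mul, Prod.mk_mul_mk, Prod.mk_mul_mk, mul_comm z' z,
          LTor.comm_zp hw hlt]
    rw [this]
    exact hcardA t N' hT'
  · -- card_D
    rw [card_map_prod, hT.card_N]; ring
  · -- D_norm
    apply le_normalizer_of_conj_mem
    intro g hg b hb
    obtain ⟨z, l, hl, rfl⟩ := (mem_map_prod e).mp hg
    obtain ⟨z', w, hw, rfl⟩ := (mem_map_prod e).mp hb
    rw [← map_inv, ← map_mul, ← map_mul]
    exact (mem_map_prod e).mpr ⟨z * z' * z⁻¹, l * w * l⁻¹, hT.conj_mem hl hw, rfl⟩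
  · -- D_cent
    intro g hg
    obtain ⟨z, l, hl, rfl⟩ := (mem_map_prod e).mp hg
    exact iota_comm e _
  · -- D_mem
    intro g hg hga
    obtain ⟨⟨z, l⟩, rfl⟩ := exists_iota e hga
    have h1 : iota e (z, l) * iota e (1, t0 ^ 2) * (iota e (z, l))⁻¹ ∈
        ((⊤ : Subgroup Z2).prod (zpowers t0)).map (iota e) :=
      (mem_normalizer_iff.mp hg _).mp
        ((mem_map_prod e).mpr ⟨1, _, Subgroup.pow_mem _ (mem_zpowers t0) 2, rfl⟩)
    obtain ⟨z', w, hw, hzw⟩ := (mem_map_prod e).mp h1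
    rw [← map_inv, ← map_mul, ← map_mul] at hzw
    have h3 : w = l * t0 ^ 2 * l⁻¹ := congrArg Prod.snd (hinj hzw)
    refine (mem_map_prod e).mpr ⟨z, l, ?_, rfl⟩
    exact hT.ctl l (t0 ^ 2) (Subgroup.pow_mem _ (mem_zpowers t0) 2) ht02 (h3 ▸ hw)

end main

end Cfsg.Agent.Lib.Helper86.ReeP2
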